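import Groth.Agent.SmoothStrat.Piece
import Groth.Agent.PiSmooth.Main
import Groth.Agent.FieldFEt.Sep
import Mathlib.AlgebraicGeometry.Morphisms.Finite
import Mathlib.AlgebraicGeometry.Noetherian

/-! Smooth stratifications over fields after a purely inseparable extension. -/

set_option autoImplicit false
set_option linter.style.haveILetI false
set_option backward.isDefEq.respectTransparency false
universe u
open CategoryTheory CategoryTheory.Limits AlgebraicGeometry TopologicalSpace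

noncomputable section

namespace Groth.Agent.SmoothStrat

theorem range_of_isPullback {P A B Y : Scheme.{u}} {p : P ⟶ A} {e : P ⟶ B} {a : A ⟶ Y} {b : B ⟶ Y}
    (h : IsPullback p e a b) : Set.range e = b ⁻¹' Set.range a := by
  rw [← h.isoPullback_hom_snd, Scheme.Hom.comp_base, TopCat.coe_comp, Set.range_comp,
    Set.range_eq_univ.2 h.isoPullback.hom.surjective, Set.image_univ, Scheme.Pullback.range_snd]

variable (k : Type u) [Field k]

/-- the map of spectra of a field extension -/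
abbrev ext (K : Type u) [Field K] [Algebra k K] : Spec (CommRingCat.of K) ⟶ Spec (CommRingCat.of k) :=
  Spec.map (CommRingCat.ofHom (algebraMap k K))

theorem surjective_ext (K : Type u) [Field K] [Algebra k K] : AlgebraicGeometry.Surjective (ext k K) :=
  ⟨fun x => ⟨(default : PrimeSpectrum K), Subsingleton.elim (α := PrimeSpectrum k) _ x⟩⟩

theorem isFinite_ext (K : Type u) [Field K] [Algebra k K] [Module.Finite k K] : IsFinite (ext k K) :=
  (IsFinite.SpecMap_iff _).2 (RingHom.finite_algebraMap.2 inferInstance)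

set_option maxHeartbeats 1000000 in
theorem exists_strat_field_aux {X : Scheme.{u}} (f : X ⟶ Spec (CommRingCat.of k)) [LocallyOfFiniteType f]
    [QuasiCompact f] (C : Closeds X) :
    ∀ (k₁ : Type u) [Field k₁] [Algebra k k₁] [Module.Finite k k₁] [IsPurelyInseparable k k₁],
      ∃ (k₂ : Type u) (_ : Field k₂) (_ : Algebra k k₂) (_ : Algebra k₁ k₂) (_ : IsScalarTower k k₁ k₂)
        (_ : Module.Finite k k₂) (_ : IsPurelyInseparable k k₂),
        Strat (pullback.snd f (ext k k₂)) (pre (pullback.fst f (ext k k₂)) C) := by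
  haveI : CompactSpace X := HasAffineProperty.iff_of_isAffine.1 ‹QuasiCompact f›
  haveI : IsNoetherian X := { __ := LocallyOfFiniteType.isLocallyNoetherian f }
  induction C using WellFoundedLT.induction with
  | _ C ih =>
  intro k₁ _ _ _ _
  by_cases hC : (C : Set X).Nonempty
  swap
  · refine ⟨k₁, inferInstance, inferInstance, Algebra.id k₁, inferInstance, inferInstance, inferInstance, ?_⟩
    have : pre (pullback.fst f (ext k k₁)) C = ⊥ := Closeds.ext (by
      simp [Set.not_nonempty_iff_eq_empty.1 hC])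
    rw [this]; exact Strat.bot
  let g₁ := pullback.fst f (ext k k₁)
  let q₁ := pullback.snd f (ext k k₁)
  haveI := surjective_ext k k₁
  haveI := isFinite_ext k k₁
  haveI := FieldFEt.universallyInjective_specMap k k₁
  haveI : UniversallyInjective g₁ := MorphismProperty.pullback_fst _ _ inferInstance
  haveI : IsFinite g₁ := MorphismProperty.pullback_fst _ _ inferInstance
  haveI : AlgebraicGeometry.Surjective g₁ := MorphismProperty.pullback_fst _ _ inferInstance
  let C₁ := pre g₁ C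
  let ι := (Scheme.IdealSheafData.vanishingIdeal C₁).subschemeι
  obtain ⟨U, hU, k₂, _, _, _, _, Z, hZ, i, hi, his, hsm⟩ := PiSmooth.main k₁ (ι ≫ q₁)
  letI : Algebra k k₂ := ((algebraMap k₁ k₂).comp (algebraMap k k₁)).toAlgebra
  haveI : IsScalarTower k k₁ k₂ := IsScalarTower.of_algebraMap_eq fun _ => rfl
  haveI : Module.Finite k k₂ := Module.Finite.trans k₁ k₂
  haveI : IsPurelyInseparable k k₂ := IsPurelyInseparable.trans k k₁ k₂
  let V : Set ↑(pullback f (ext k k₁)) := ι '' (U : Set _)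
  let D : Closeds X := ⟨g₁ '' ((C₁ : Set _) \ V), g₁.isClosedMap _ (by
    have hι : Set.range ι = (C₁ : Set _) := by
      rw [Scheme.IdealSheafData.range_subschemeι, support_vi]
    have : (C₁ : Set _) \ V = ι '' (U : Set _)ᶜ := by
      rw [Set.image_compl_eq_range_sdiff_image ι.isClosedEmbedding.injective, hι]
    rw [this]
    exact ι.isClosedEmbedding.isClosedMap _ U.2.isClosed_compl)⟩
  have hι : Set.range ι = (C₁ : Set _) := by
    rw [Scheme.IdealSheafData.range_subschemeι, support_vi]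
  have hDC : D < C := by
    refine lt_of_le_of_ne ?_ fun h => ?_
    · rintro _ ⟨w, hw, rfl⟩; exact hw.1
    · obtain ⟨x, hx⟩ := hC
      obtain ⟨w, rfl⟩ := g₁.surjective x
      obtain ⟨a, ha⟩ : w ∈ Set.range ι := hι ▸ hx
      obtain ⟨b, -, hb⟩ := dense_iff_inter_open.1 hU _ isOpen_univ ⟨a, trivial⟩
      have h1 : g₁ (ι b) ∈ (D : Set X) := by
        rw [h]; exact (hι ▸ ⟨b, rfl⟩ : ι b ∈ (C₁ : Set _))
      obtain ⟨w', ⟨-, hw'⟩, he⟩ := h1
      exact hw' ⟨b, hb, (g₁.injective he).symm⟩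
  obtain ⟨k₃, _, _, _, _, _, _, hD⟩ := ih D hDC k₂
  letI : Algebra k₁ k₃ := ((algebraMap k₂ k₃).comp (algebraMap k₁ k₂)).toAlgebra
  haveI : IsScalarTower k k₁ k₃ := IsScalarTower.of_algebraMap_eq fun x => by
    show algebraMap k k₃ x = algebraMap k₂ k₃ (algebraMap k₁ k₂ (algebraMap k k₁ x))
    rw [← IsScalarTower.algebraMap_apply k k₁ k₂, ← IsScalarTower.algebraMap_apply k k₂ k₃]
  refine ⟨k₃, inferInstance, inferInstance, inferInstance, inferInstance, inferInstance, inferInstance, ?_⟩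
  let m₁₂ := ext k₁ k₂
  let m₂₃ := ext k₂ k₃
  have hm₁₂ : m₁₂ ≫ ext k k₁ = ext k k₂ := by
    rw [← Spec.map_comp, ← CommRingCat.ofHom_comp]
    congr 2
  have hm₂₃ : m₂₃ ≫ ext k k₂ = ext k k₃ := by
    rw [← Spec.map_comp, ← CommRingCat.ofHom_comp]
    congr 2
    exact (IsScalarTower.algebraMap_eq k k₂ k₃).symm
  let g₂ := pullback.fst f (ext k k₂)
  let q₂ := pullback.snd f (ext k k₂)
  let g₁₂ : pullback f (ext k k₂) ⟶ pullback f (ext k k₁) :=
    pullback.lift g₂ (q₂ ≫ m₁₂) (by rw [Category.assoc, hm₁₂, pullback.condition])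
  let g₂₃ : pullback f (ext k k₃) ⟶ pullback f (ext k k₂) :=
    pullback.lift (pullback.fst f (ext k k₃)) (pullback.snd f (ext k k₃) ≫ m₂₃)
      (by rw [Category.assoc, hm₂₃, pullback.condition])
  have h₁₂ : IsPullback g₁₂ q₂ q₁ m₁₂ := by
    refine IsPullback.of_right ?_ (pullback.lift_snd _ _ _) (IsPullback.of_hasPullback f (ext k k₁))
    simpa [g₁₂, hm₁₂, g₁, g₂, q₁, q₂] using IsPullback.of_hasPullback f (ext k k₂)
  have h₂₃ : IsPullback g₂₃ (pullback.snd f (ext k k₃)) q₂ m₂₃ := by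
    refine IsPullback.of_right ?_ (pullback.lift_snd _ _ _) (IsPullback.of_hasPullback f (ext k k₂))
    simpa [g₂₃, hm₂₃, g₂, q₂] using IsPullback.of_hasPullback f (ext k k₃)
  let a := pullback.fst (U.ι ≫ ι ≫ q₁) m₁₂
  let b := pullback.snd (U.ι ≫ ι ≫ q₁) m₁₂
  let e := h₁₂.lift (a ≫ U.ι ≫ ι) b (by
    simp only [a, b, Category.assoc]; exact pullback.condition)
  have hsq : IsPullback a e (U.ι ≫ ι) g₁₂ := by
    refine IsPullback.of_bot ?_ (h₁₂.lift_fst _ _ _).symm h₁₂
    rw [h₁₂.lift_snd, Category.assoc]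
    exact IsPullback.of_hasPullback (U.ι ≫ ι ≫ q₁) m₁₂
  haveI : IsImmersion e := MorphismProperty.of_isPullback (P := @IsImmersion) hsq inferInstance
  have hrange : Set.range (i ≫ e) = g₁₂ ⁻¹' V := by
    rw [Scheme.Hom.comp_base, TopCat.coe_comp, Set.range_comp, Set.range_eq_univ.2 his, Set.image_univ,
      range_of_isPullback hsq, Scheme.Hom.comp_base, TopCat.coe_comp, Set.range_comp, Scheme.Opens.range_ι]
  have hpiece : Piece q₂ ((pre g₂ C : Set _) \ (pre g₂ D : Set _)) := by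
    refine ⟨Z, i ≫ e, hZ, inferInstance, ?_, ?_⟩
    · rw [hrange]
      have hfac : g₁₂ ≫ g₁ = g₂ := pullback.lift_fst _ _ _
      ext x
      rw [coe_pre, coe_pre, ← hfac]
      show g₁₂ x ∈ V ↔ g₁ (g₁₂ x) ∈ (C : Set X) ∧ g₁ (g₁₂ x) ∉ (D : Set X)
      constructor
      · intro hx
        have hxC : g₁₂ x ∈ (C₁ : Set _) := hι ▸ Set.image_subset_range _ _ hx
        exact ⟨hxC, fun ⟨w, hw, he⟩ => hw.2 (g₁.injective he ▸ hx)⟩
      · rintro ⟨hxC, hxD⟩
        by_contra hx
        exact hxD ⟨g₁₂ x, ⟨hxC, hx⟩, rfl⟩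
    · rw [Category.assoc, h₁₂.lift_snd]
      exact hsm
  have hpre : ∀ E : Closeds X, pre g₂₃ (pre g₂ E) = pre (pullback.fst f (ext k k₃)) E := fun E =>
    Closeds.ext (by
      have hfac : g₂₃ ≫ g₂ = pullback.fst f (ext k k₃) := pullback.lift_fst _ _ _
      rw [coe_pre, coe_pre, coe_pre, ← hfac]
      rfl)
  have hp3 := hpiece.baseChange h₂₃
  rw [Set.preimage_sdiff, ← coe_pre g₂₃, ← coe_pre g₂₃, hpre, hpre] at hp3
  exact Strat.step _ _ (fun x hx => hDC.le hx) hp3 hD

theorem exists_strat_field {X : Scheme.{u}} (f : X ⟶ Spec (CommRingCat.of k)) [LocallyOfFiniteType f]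
    [QuasiCompact f] :
    ∃ (k' : Type u) (_ : Field k') (_ : Algebra k k') (_ : Module.Finite k k') (_ : IsPurelyInseparable k k'),
      Strat (pullback.snd f (ext k k')) ⊤ := by
  obtain ⟨k₂, F₂, a₂, b₂, t₂, f₂, p₂, h⟩ := exists_strat_field_aux k f ⊤ k
  refine ⟨k₂, F₂, a₂, f₂, p₂, ?_⟩
  rwa [show pre (pullback.fst f (@ext k _ k₂ F₂ a₂)) (⊤ : Closeds X) = ⊤ from Closeds.ext (by simp)] at h

end Groth.Agent.SmoothStrat
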