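import Groth.Agent.GrpField.SchImgSmooth
import Groth.Agent.AlgSpLib.Reduced
import Groth.Agent.DvrDom.ClosedProper
import Mathlib.AlgebraicGeometry.Morphisms.Immersion
import Mathlib.AlgebraicGeometry.PullbackCarrier

/-! Smooth stratifications by reduced locally closed pieces. -/

set_option autoImplicit false
set_option linter.style.haveILetI false
set_option backward.isDefEq.respectTransparency false
universe u
open CategoryTheory CategoryTheory.Limits AlgebraicGeometry TopologicalSpace

noncomputable section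

namespace Groth.Agent.SmoothStrat

variable {Y T : Scheme.{u}}

theorem support_vi (C : Closeds Y) : (Scheme.IdealSheafData.vanishingIdeal C).support = C :=
  Closeds.ext (Scheme.IdealSheafData.coe_support_vanishingIdeal C)

/-- The reduced scheme structure on the locally closed set `S` is smooth over the base. -/
def Piece (q : Y ⟶ T) (S : Set Y) : Prop :=
  ∃ (Z : Scheme.{u}) (z : Z ⟶ Y), IsReduced Z ∧ IsImmersion z ∧ Set.range z = S ∧ Smooth (z ≫ q)

/-- A chain of closed subsets with smooth pieces starting at the given closed set. -/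
inductive Strat (q : Y ⟶ T) : Closeds Y → Prop
  | bot : Strat q ⊥
  | step (C D : Closeds Y) : D ≤ C → Piece q ((C : Set Y) \ (D : Set Y)) → Strat q D → Strat q C

theorem exists_chain {q : Y ⟶ T} {C : Closeds Y} (h : Strat q C) :
    ∃ (t : ℕ) (D : Fin (t + 1) → Closeds Y), D 0 = C ∧ D (Fin.last t) = ⊥ ∧
      ∀ i : Fin t, D i.succ ≤ D i.castSucc ∧ Piece q ((D i.castSucc : Set Y) \ (D i.succ : Set Y)) := by
  induction h with
  | bot => exact ⟨0, fun _ => ⊥, rfl, rfl, fun i => i.elim0⟩
  | step C D hle hp _ ih =>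
    obtain ⟨t, E, h0, hlast, hstep⟩ := ih
    refine ⟨t + 1, Fin.cons C E, Fin.cons_zero _ _, ?_, fun i => ?_⟩
    · rw [← Fin.succ_last, Fin.cons_succ, hlast]
    · induction i using Fin.cases with
      | zero =>
        rw [Fin.cons_succ, Fin.castSucc_zero, Fin.cons_zero, h0]
        exact ⟨hle, hp⟩
      | succ i =>
        rw [Fin.cons_succ, ← Fin.succ_castSucc, Fin.cons_succ]
        exact hstep i

/-- Reduced schemes immersed with the same range are isomorphic over the ambient scheme. -/
theorem exists_iso_of_immersion {A B : Scheme.{u}} (i : A ⟶ Y) (j : B ⟶ Y) [IsImmersion i] [IsImmersion j]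
    [IsReduced A] [IsReduced B] (h : Set.range i = Set.range j) : ∃ e : A ≅ B, e.hom ≫ j = i := by
  have hl : IsLocallyClosed (Set.range j) := j.isLocallyClosed_range
  let W : Y.Opens := ⟨coborder (Set.range j), hl.isOpen_coborder⟩
  have hiW : Set.range i ⊆ Set.range W.ι := by
    rw [Scheme.Opens.range_ι, h]; exact subset_coborder
  have hjW : Set.range j ⊆ Set.range W.ι := by
    rw [Scheme.Opens.range_ι]; exact subset_coborder
  let i' := IsOpenImmersion.lift W.ι i hiW
  let j' := IsOpenImmersion.lift W.ι j hjW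
  have hi : i' ≫ W.ι = i := IsOpenImmersion.lift_fac _ _ _
  have hj : j' ≫ W.ι = j := IsOpenImmersion.lift_fac _ _ _
  haveI : IsImmersion (i' ≫ W.ι) := by rw [hi]; infer_instance
  haveI : IsImmersion (j' ≫ W.ι) := by rw [hj]; infer_instance
  haveI : IsImmersion i' := IsImmersion.of_comp i' W.ι
  haveI : IsImmersion j' := IsImmersion.of_comp j' W.ι
  have hclosed : IsClosed (W.ι ⁻¹' Set.range j) :=
    (Topology.IsInducing.subtypeVal.isClosed_iff).2 ⟨closure (Set.range j), isClosed_closure, by
      ext w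
      refine ⟨fun hw => ?_, fun hw => subset_closure hw⟩
      have := coborder_inter_closure (s := Set.range j) ▸ (Set.mem_inter w.2 hw)
      exact this⟩
  have hri : Set.range i' = W.ι ⁻¹' Set.range i := by
    rw [← hi]
    ext w
    constructor
    · rintro ⟨a, rfl⟩; exact ⟨a, rfl⟩
    · rintro ⟨a, ha⟩; exact ⟨a, W.ι.injective ha⟩
  have hrj : Set.range j' = W.ι ⁻¹' Set.range j := by
    rw [← hj]
    ext w
    constructor
    · rintro ⟨a, rfl⟩; exact ⟨a, rfl⟩
    · rintro ⟨a, ha⟩; exact ⟨a, W.ι.injective ha⟩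
  haveI : IsClosedImmersion i' := .of_isPreimmersion _ (by rw [hri, h]; exact hclosed)
  haveI : IsClosedImmersion j' := .of_isPreimmersion _ (by rw [hrj]; exact hclosed)
  obtain ⟨e, he⟩ := GrpField.SchImg.exists_iso_of_range_eq i' j' (by rw [hri, hrj, h])
  exact ⟨e, by rw [← hj, ← Category.assoc, he, hi]⟩

theorem Piece.smooth_of_immersion {q : Y ⟶ T} {S : Set Y} (h : Piece q S) {A : Scheme.{u}} (i : A ⟶ Y)
    [IsImmersion i] [IsReduced A] (hi : Set.range i = S) : Smooth (i ≫ q) := by
  obtain ⟨Z, z, hZ, hz, hr, hs⟩ := h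
  obtain ⟨e, he⟩ := exists_iso_of_immersion i z (hi.trans hr.symm)
  rw [← he, Category.assoc]
  infer_instance

theorem Piece.baseChange {q : Y ⟶ T} {Y' T' : Scheme.{u}} {g : Y' ⟶ Y} {q' : Y' ⟶ T'} {m : T' ⟶ T}
    (hsq : IsPullback g q' q m) [IsReduced T'] {S : Set Y} (h : Piece q S) : Piece q' (g ⁻¹' S) := by
  obtain ⟨Z, z, hZ, hz, hr, hs⟩ := h
  have hbig : IsPullback (pullback.fst z g) (pullback.snd z g ≫ q') (z ≫ q) m :=
    (IsPullback.of_hasPullback z g).paste_vert hsq
  haveI : Smooth (pullback.snd z g ≫ q') := MorphismProperty.of_isPullback hbig hs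
  haveI : IsReduced (pullback z g) := AlgSpLib.isReduced_of_smooth (pullback.snd z g ≫ q')
  exact ⟨_, pullback.snd z g, inferInstance, inferInstance, by rw [Scheme.Pullback.range_snd, hr], inferInstance⟩

/-- preimage of a closed subset -/
def pre {Y' : Scheme.{u}} (g : Y' ⟶ Y) (C : Closeds Y) : Closeds Y' := ⟨g ⁻¹' C, C.isClosed.preimage g.continuous⟩

@[simp] theorem coe_pre {Y' : Scheme.{u}} (g : Y' ⟶ Y) (C : Closeds Y) : (pre g C : Set Y') = g ⁻¹' C := rfl

theorem Strat.baseChange {q : Y ⟶ T} {Y' T' : Scheme.{u}} {g : Y' ⟶ Y} {q' : Y' ⟶ T'} {m : T' ⟶ T}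
    (hsq : IsPullback g q' q m) [IsReduced T'] {C : Closeds Y} (h : Strat q C) : Strat q' (pre g C) := by
  induction h with
  | bot => exact (Closeds.ext (by simp) : pre g (⊥ : Closeds Y) = ⊥) ▸ Strat.bot
  | step C D hle hp _ ih =>
    exact Strat.step _ _ (fun x hx => hle hx) (Piece.baseChange hsq hp) ih

theorem Piece.smooth_stratum {q : Y ⟶ T} {C D : Closeds Y} (h : Piece q ((C : Set Y) \ (D : Set Y))) :
    Smooth (((Scheme.IdealSheafData.vanishingIdeal C).subschemeι ⁻¹ᵁ
        (Scheme.IdealSheafData.vanishingIdeal D).support.compl).ι ≫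
      (Scheme.IdealSheafData.vanishingIdeal C).subschemeι ≫ q) := by
  let I := Scheme.IdealSheafData.vanishingIdeal C
  let O := I.subschemeι ⁻¹ᵁ (Scheme.IdealSheafData.vanishingIdeal D).support.compl
  haveI : IsReduced I.subscheme := DvrDom.isReduced_vanishingIdeal_subscheme C
  haveI : IsReduced O.toScheme := isReduced_of_isOpenImmersion O.ι
  rw [← Category.assoc]
  refine h.smooth_of_immersion (O.ι ≫ I.subschemeι) ?_
  rw [Scheme.Hom.comp_base, TopCat.coe_comp, Set.range_comp, Scheme.Opens.range_ι]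
  ext y
  simp only [Set.mem_image, Set.mem_sdiff]
  constructor
  · rintro ⟨a, ha, rfl⟩
    refine ⟨?_, fun hD => ha ?_⟩
    · have : I.subschemeι a ∈ Set.range I.subschemeι := ⟨a, rfl⟩
      rw [I.range_subschemeι] at this
      rwa [support_vi] at this
    · show I.subschemeι a ∈ (Scheme.IdealSheafData.vanishingIdeal D).support
      rw [support_vi]
      exact hD
  · rintro ⟨hC, hD⟩
    have : y ∈ Set.range I.subschemeι := by
      rw [I.range_subschemeι, support_vi]; exact hC
    obtain ⟨a, rfl⟩ := this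
    refine ⟨a, fun ha => hD ?_, rfl⟩
    have := (show I.subschemeι a ∈ (Scheme.IdealSheafData.vanishingIdeal D).support from ha)
    rwa [support_vi] at this

/-- The ideal form of a stratification. -/
theorem exists_ideals {q : Y ⟶ T} (h : Strat q (⊤ : Closeds Y)) :
    ∃ (t : ℕ) (J : Fin (t + 1) → Y.IdealSheafData), Monotone J ∧
      J 0 = Scheme.IdealSheafData.vanishingIdeal ⊤ ∧ J (Fin.last t) = ⊤ ∧ ((J 0).support : Set Y) = Set.univ ∧
      ∀ i : Fin t, Smooth (((J i.castSucc).subschemeι ⁻¹ᵁ (J i.succ).support.compl).ι ≫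
        (J i.castSucc).subschemeι ≫ q) := by
  obtain ⟨t, D, h0, hlast, hstep⟩ := exists_chain h
  refine ⟨t, fun i => Scheme.IdealSheafData.vanishingIdeal (D i),
    Fin.monotone_iff_le_succ.2 fun i => Scheme.IdealSheafData.vanishingIdeal_antimono (hstep i).1, by simp [h0], ?_, ?_,
    fun i => (hstep i).2.smooth_stratum⟩
  · refine (Scheme.IdealSheafData.support_eq_bot_iff _).1 ?_
    simp [hlast]
  · simp [h0, support_vi]

/-- Pulling back a stratum cut out by ideals. -/
theorem smooth_stratum_comap {q : Y ⟶ T} {Y' T' : Scheme.{u}} {g : Y' ⟶ Y} {q' : Y' ⟶ T'} {m : T' ⟶ T}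
    (hsq : IsPullback g q' q m) (K L : Y.IdealSheafData)
    (h : Smooth ((K.subschemeι ⁻¹ᵁ L.support.compl).ι ≫ K.subschemeι ≫ q)) :
    Smooth (((K.comap g).subschemeι ⁻¹ᵁ (L.comap g).support.compl).ι ≫ (K.comap g).subschemeι ≫ q') := by
  let π : (K.comap g).subscheme ⟶ K.subscheme := (K.comapIso g).hom ≫ pullback.snd g K.subschemeι
  have hK : IsPullback π (K.comap g).subschemeι K.subschemeι g := by
    refine IsPullback.of_iso_pullback ⟨?_⟩ ((K.comapIso g) ≪≫ pullbackSymmetry _ _) ?_ ?_
    · simp only [π, Category.assoc]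
      rw [← pullback.condition, ← Category.assoc, Scheme.IdealSheafData.comapIso_hom_fst]
    · simp [π]
    · simp
  let O := K.subschemeι ⁻¹ᵁ L.support.compl
  have hO : π ⁻¹ᵁ O = (K.comap g).subschemeι ⁻¹ᵁ (L.comap g).support.compl := by
    ext z
    have hw := congrArg (fun f : (K.comap g).subscheme ⟶ Y => f z) hK.w
    show ¬ K.subschemeι (π z) ∈ L.support ↔ ¬ (K.comap g).subschemeι z ∈ (L.comap g).support
    rw [show K.subschemeι (π z) = g ((K.comap g).subschemeι z) from hw, Scheme.IdealSheafData.support_comap]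
    rfl
  have hres := isPullback_morphismRestrict π O
  have hbig : IsPullback (π ∣_ O) ((π ⁻¹ᵁ O).ι ≫ (K.comap g).subschemeι ≫ q') (O.ι ≫ K.subschemeι ≫ q) m := by
    have := (hres.paste_vert hK).paste_vert hsq
    simpa only [Category.assoc] using this
  have := MorphismProperty.of_isPullback (P := @Smooth) hbig h
  rwa [hO] at this

end Groth.Agent.SmoothStrat
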