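import Groth.Agent.SmoothStrat.GeomIntField
import Groth.Agent.SmoothStrat.Piece
import Groth.Agent.SmoothStrat.Field
import Groth.Agent.GeomFib.Consequences
import Groth.Agent.GeomRedSpread.NearPoint
import Groth.Agent.DvrDom.Scheme

/-! Components of geometric fibres of proper flat morphisms with reduced fibres can only multiply on specialisation. -/

set_option autoImplicit false
set_option linter.style.haveILetI false
set_option backward.isDefEq.respectTransparency false
universe u
open CategoryTheory CategoryTheory.Limits AlgebraicGeometry TopologicalSpace IsLocalRing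

noncomputable section

namespace Groth.Agent.SmoothStrat

/-- A prime minimal in the ring, cut down by a regular element with reduced quotient to the closed point alone. -/
theorem eq_bot_of_reduced_mod {O : Type u} [CommRing O] [IsLocalRing O] [IsNoetherianRing O] {π : O}
    (hπ : π ∈ maximalIdeal O) (hreg : IsSMulRegular O π) (hrad : (Ideal.span {π}).IsRadical)
    {P : Ideal O} (hP : P ∈ minimalPrimes O)
    (hPQ : ∀ Q : Ideal O, Q.IsPrime → P ≤ Q → π ∈ Q → Q = maximalIdeal O) :
    (∀ Q : Ideal O, Q.IsPrime → π ∈ Q → Q = maximalIdeal O) ∧ ∀ Q ∈ minimalPrimes O, Q = ⊥ := by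
  have hradm : maximalIdeal O ≤ (P ⊔ Ideal.span {π}).radical := by
    rw [Ideal.radical_eq_sInf]
    exact le_sInf fun Q ⟨hQ, hQp⟩ => (hPQ Q hQp (le_sup_left.trans hQ)
      (hQ (Ideal.mem_sup_right (Ideal.mem_span_singleton_self π)))).ge
  obtain ⟨n, hn⟩ := Ideal.exists_pow_le_of_le_radical_of_fg_radical hradm (IsNoetherian.noetherian _)
  obtain ⟨hPp, z, hz⟩ := isAssociatedPrime_iff.1 (Module.associatedPrimes.minimalPrimes_annihilator_subset_associatedPrimes O O (by
    have h0 : Module.annihilator O O = ⊥ := (Module.annihilator_eq_bot).2 inferInstance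
    rw [h0]; exact hP))
  have hzP : ∀ a : O, a ∈ P ↔ a * z = 0 := fun a => by simp [hz, Submodule.mem_colon_singleton]
  have hz0 : z ≠ 0 := fun h => hPp.ne_top ((Ideal.eq_top_iff_one _).2 ((hzP 1).2 (by simp [h])))
  have hlt : (Ideal.span {π} : Ideal O) ≠ ⊤ := fun h =>
    (maximalIdeal.isMaximal O).ne_top (top_le_iff.1 (h ▸ (Ideal.span_singleton_le_iff_mem _).2 hπ))
  obtain ⟨w, hwP, hwπ⟩ : ∃ w : O, (∀ a ∈ P, a * w = 0) ∧ w ∉ Ideal.span {π} := by
    classical
    have hex : ∃ k, z ∉ Ideal.span {π ^ k} := by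
      by_contra h
      push_neg at h
      refine hz0 ?_
      rw [← Ideal.mem_bot, ← Ideal.iInf_pow_eq_bot_of_isLocalRing _ hlt, Ideal.mem_iInf]
      exact fun k => by rw [Ideal.span_singleton_pow]; exact h k
    obtain ⟨k, hk⟩ := Nat.exists_eq_succ_of_ne_zero (n := Nat.find hex) fun h => by
      have := Nat.find_spec hex
      rw [h, pow_zero, Ideal.span_singleton_one] at this
      exact this trivial
    have h1 := Nat.find_min hex (m := k) (by omega)
    push_neg at h1
    obtain ⟨w, rfl⟩ := Ideal.mem_span_singleton'.1 h1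
    refine ⟨w, fun a ha => (hreg.pow k).right_eq_zero_of_smul ?_, fun hw => ?_⟩
    · show π ^ k * (a * w) = 0
      rw [← (hzP a).1 ha]; ring
    · obtain ⟨b, rfl⟩ := Ideal.mem_span_singleton'.1 hw
      refine Nat.find_spec hex ?_
      rw [hk, Nat.succ_eq_add_one]
      exact Ideal.mem_span_singleton'.2 ⟨b, by ring⟩
  have hQall : ∀ Q : Ideal O, Q.IsPrime → π ∈ Q → Q = maximalIdeal O := by
    by_contra hne
    push_neg at hne
    obtain ⟨Q₁, hQ₁, hπQ₁, hQ₁ne⟩ := hne
    apply hwπ
    have hall : w ∈ (Ideal.span {π}).radical := by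
      rw [Ideal.radical_eq_sInf]
      refine Ideal.mem_sInf.2 fun {Q} hQ => ?_
      obtain ⟨hQπ, hQp⟩ := hQ
      by_cases hmax : Q = maximalIdeal O
      · subst hmax
        by_contra hwm
        have hu : IsUnit w := not_not.1 fun h => hwm h
        have hPbot : ∀ a ∈ P, a = 0 := fun a ha => hu.mul_left_eq_zero.1 (hwP a ha)
        refine hQ₁ne (hPQ Q₁ hQ₁ (fun a ha => by rw [hPbot a ha]; exact zero_mem _) hπQ₁)
      · have hnot : ¬ maximalIdeal O ^ n ≤ Q := fun h =>
          hmax ((maximalIdeal.isMaximal O).eq_of_le hQp.ne_top (hQp.le_of_pow_le h)).symm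
        obtain ⟨a, ha, haQ⟩ := SetLike.not_le_iff_exists.1 hnot
        obtain ⟨p, hp, q, hq, rfl⟩ := Submodule.mem_sup.1 (hn ha)
        refine (hQp.mem_or_mem (?_ : (p + q) * w ∈ Q)).resolve_left haQ
        rw [add_mul, hwP p hp, zero_add]
        exact Ideal.mul_mem_right _ _ (hQπ hq)
    exact hrad hall
  refine ⟨hQall, fun Q hQ => ?_⟩
  haveI : Q.IsPrime := hQ.1.1
  have hmeq : maximalIdeal O = Ideal.span {π} := by
    refine le_antisymm (le_trans ?_ hrad) ((Ideal.span_singleton_le_iff_mem _).2 hπ)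
    rw [Ideal.radical_eq_sInf]
    exact le_sInf fun Q' ⟨hQ', hQ'p⟩ => (hQall Q' hQ'p (hQ' (Ideal.mem_span_singleton_self π))).ge
  have hπQ : π ∉ Q := fun h => Set.disjoint_left.1 (Ideal.disjoint_nonZeroDivisors_of_mem_minimalPrimes hQ)
    (SetLike.mem_coe.2 h) (mem_nonZeroDivisors_iff_right.2 fun a ha => hreg (by simp [mul_comm π a, ha]))
  refine Submodule.eq_bot_of_le_smul_of_le_jacobson_bot (maximalIdeal O) Q (IsNoetherian.noetherian _) ?_
    (le_of_eq (jacobson_eq_maximalIdeal ⊥ bot_ne_top).symm)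
  intro a ha
  obtain ⟨b, rfl⟩ := Ideal.mem_span_singleton'.1 (hmeq.le (le_maximalIdeal ‹Q.IsPrime›.ne_top ha))
  have hb : b ∈ Q := (‹Q.IsPrime›.mem_or_mem ha).resolve_right hπQ
  rw [mul_comm]
  exact Submodule.smul_mem_smul hπ hb

/-- A radical ideal stays radical in a localisation. -/
theorem isRadical_map {A O : Type u} [CommRing A] [CommRing O] [Algebra A O] (M : Submonoid A) [IsLocalization M O]
    {I : Ideal A} (hI : I.IsRadical) : (I.map (algebraMap A O)).IsRadical := by
  intro y hy
  obtain ⟨n, hn⟩ := hy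
  obtain ⟨⟨a, s⟩, hs⟩ := IsLocalization.surj M y
  obtain ⟨⟨i, t⟩, hit⟩ := (IsLocalization.mem_map_algebraMap_iff M O).1 hn
  have h : algebraMap A O (a ^ n * t) = algebraMap A O (i * (s : A) ^ n) := by
    rw [map_mul, map_mul, map_pow, map_pow, ← hs, mul_pow, ← hit]
    ring
  obtain ⟨c, hc⟩ := (IsLocalization.eq_iff_exists M O).1 h
  have hmem : ((c : A) * t * a) ^ (n + 1) ∈ I := by
    have e : ((c : A) * t * a) ^ (n + 1) = (c : A) ^ n * (t : A) ^ n * a * ((c : A) * (a ^ n * t)) := by ring
    rw [e, hc, show (c : A) ^ n * (t : A) ^ n * a * (c * ((i : A) * (s : A) ^ n)) = (c ^ n * t ^ n * a * c * s ^ n) * i by ring]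
    exact Ideal.mul_mem_left _ _ i.2
  refine (IsLocalization.mem_map_algebraMap_iff M O).2 ⟨⟨⟨_, hI ⟨n + 1, hmem⟩⟩, c * t * s⟩, ?_⟩
  simp only [Submonoid.coe_mul, map_mul, ← hs]
  ring

/-- generic points of components are the points without proper generisation -/
theorem mem_genericPoints_iff {α : Type u} [TopologicalSpace α] [QuasiSober α] [T0Space α] {x : α} :
    x ∈ genericPoints α ↔ ∀ w, w ⤳ x → w = x := by
  constructor
  · intro hx w hw
    have h := hx.2 isIrreducible_singleton.closure (closure_minimal (Set.singleton_subset_iff.2 hw.mem_closure) isClosed_closure)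
    exact ((specializes_iff_mem_closure.2 (h (subset_closure rfl))).antisymm hw).eq.symm
  · intro h
    obtain ⟨Z, hZ, hZx⟩ := exists_mem_irreducibleComponents_subset_of_isIrreducible _
      (isIrreducible_singleton (x := x))
    have hg := hZ.1.isGenericPoint_genericPoint (isClosed_of_mem_irreducibleComponents Z hZ)
    have hw := h _ (specializes_iff_mem_closure.2 (hg.def.symm ▸ hZx rfl))
    show closure {x} ∈ irreducibleComponents α
    rw [← hw, hg.def]
    exact hZ

theorem encard_genericPoints {α : Type u} [TopologicalSpace α] [QuasiSober α] [T0Space α] :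
    (genericPoints α).encard = (irreducibleComponents α).encard :=
  ENat.card_congr (Equiv.ofBijective genericPoints.component
    ⟨genericPoints.component_injective, genericPoints.component_surjective⟩)

/-- a surjection does not lose components -/
theorem encard_genericPoints_le {α β : Type u} [TopologicalSpace α] [QuasiSober α] [T0Space α]
    [TopologicalSpace β] [QuasiSober β] [T0Space β] {q : α → β} (hc : Continuous q) (hs : Function.Surjective q) :
    (genericPoints β).encard ≤ (genericPoints α).encard := by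
  refine (Set.encard_mono (fun x hx => ?_ : genericPoints β ⊆ q '' genericPoints α)).trans (Set.encard_image_le q _)
  obtain ⟨a, rfl⟩ := hs x
  obtain ⟨Z, hZ, hZa⟩ := exists_mem_irreducibleComponents_subset_of_isIrreducible _ (isIrreducible_singleton (x := a))
  have hg := hZ.1.isGenericPoint_genericPoint (isClosed_of_mem_irreducibleComponents Z hZ)
  refine ⟨hZ.1.genericPoint, ?_, mem_genericPoints_iff.1 hx _
    ((specializes_iff_mem_closure.2 (hg.def.symm ▸ hZa rfl)).map hc)⟩
  show closure _ ∈ irreducibleComponents α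
  rw [hg.def]
  exact hZ

/-- The statement on the primes below a given one. -/
theorem eq_of_reduced_mod_prime {A : Type u} [CommRing A] [IsNoetherianRing A] (t : A)
    (hrad : (Ideal.span {t}).IsRadical) (px pz : Ideal A) [hpx : px.IsPrime] [hpz : pz.IsPrime]
    (hreg : IsSMulRegular (Localization.AtPrime px) (algebraMap A (Localization.AtPrime px) t)) (ht : t ∈ px)
    (hzx : pz ≤ px) (hzmin : ∀ Q : Ideal A, Q.IsPrime → Q ≤ pz → Q = pz)
    (hxmax : ∀ Q : Ideal A, Q.IsPrime → t ∈ Q → pz ≤ Q → Q ≤ px → Q = px) :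
    (∀ Q : Ideal A, Q.IsPrime → t ∈ Q → Q ≤ px → Q = px) ∧
      ∀ Q : Ideal A, Q.IsPrime → Q ≤ px → (∀ Q' : Ideal A, Q'.IsPrime → Q' ≤ Q → Q' = Q) → Q = pz := by
  let O := Localization.AtPrime px
  let M := px.primeCompl
  haveI : IsNoetherianRing O := IsLocalization.isNoetherianRing M O inferInstance
  have hm : t ∈ px ↔ algebraMap A O t ∈ maximalIdeal O :=
    (IsLocalization.AtPrime.to_map_mem_maximal_iff O px t).symm
  have hradO : (Ideal.span {algebraMap A O t} : Ideal O).IsRadical := by
    have := isRadical_map (O := O) M hrad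
    rwa [Ideal.map_span, Set.image_singleton] at this
  have hdisj : ∀ Q : Ideal A, Q ≤ px → Disjoint (M : Set A) Q := fun Q hQ =>
    Set.disjoint_left.2 fun b hb hb' => hb (hQ hb')
  have hcomap : ∀ Q : Ideal A, Q.IsPrime → Q ≤ px → (Q.map (algebraMap A O)).comap (algebraMap A O) = Q :=
    fun Q hQ hQx => IsLocalization.under_map_of_isPrime_disjoint M O hQ (hdisj Q hQx)
  have hprime : ∀ Q : Ideal A, Q.IsPrime → Q ≤ px → (Q.map (algebraMap A O)).IsPrime :=
    fun Q hQ hQx => IsLocalization.isPrime_of_isPrime_disjoint M O _ hQ (hdisj Q hQx)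
  have hle : ∀ Q : Ideal O, Q.IsPrime → Q.comap (algebraMap A O) ≤ px := fun Q hQ =>
    (Ideal.comap_mono (le_maximalIdeal hQ.ne_top)).trans (IsLocalization.AtPrime.under_maximalIdeal O px).le
  have hminO : ∀ Q : Ideal A, Q.IsPrime → Q ≤ px → (∀ Q' : Ideal A, Q'.IsPrime → Q' ≤ Q → Q' = Q) →
      Q.map (algebraMap A O) ∈ minimalPrimes O := fun Q hQ hQx hQmin =>
    ⟨⟨hprime Q hQ hQx, bot_le⟩, fun Q₁ hQ₁ hQ₁le => by
      have e := hQmin _ (hQ₁.1.comap _) ((Ideal.comap_mono hQ₁le).trans (hcomap Q hQ hQx).le)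
      exact ((congrArg (Ideal.map (algebraMap A O)) e).symm.trans (IsLocalization.map_under M O Q₁)).le⟩
  obtain ⟨hall, hbot⟩ := eq_bot_of_reduced_mod (hm.1 ht) hreg hradO (hminO pz hpz hzx hzmin) fun Q hQ hPQ htQ => by
    have e := hxmax _ (hQ.comap _) htQ (Ideal.map_le_iff_le_comap.1 hPQ) (hle Q hQ)
    exact (IsLocalization.map_under M O Q).symm.trans
      ((congrArg (Ideal.map (algebraMap A O)) e).trans Localization.AtPrime.map_eq_maximalIdeal)
  refine ⟨fun Q hQ htQ hQx => ?_, fun Q hQ hQx hQmin => ?_⟩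
  · have e := hall _ (hprime Q hQ hQx) (Ideal.mem_map_of_mem _ htQ)
    exact (hcomap Q hQ hQx).symm.trans
      ((congrArg (Ideal.comap (algebraMap A O)) e).trans (IsLocalization.AtPrime.under_maximalIdeal O px))
  · have e := (hbot _ (hminO Q hQ hQx hQmin)).trans (hbot _ (hminO pz hpz hzx hzmin)).symm
    exact (hcomap Q hQ hQx).symm.trans ((congrArg (Ideal.comap (algebraMap A O)) e).trans (hcomap pz hpz hzx))

/-- Over a discrete valuation ring, the generic point of a component and a generic point of its special part. -/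
theorem unique_generisation {R : Type u} [CommRing R] [IsDomain R] [IsDiscreteValuationRing R] {P : Scheme.{u}}
    (p : P ⟶ Spec (CommRingCat.of R)) [Flat p] [IsLocallyNoetherian P]
    [IsReduced (pullback p (Spec.map (CommRingCat.ofHom (residue R))))]
    {z x : P} (hzmax : ∀ w, w ⤳ z → w = z) (hzx : z ⤳ x) (hx : p x = closedPoint R)
    (hxmax : ∀ x', p x' = closedPoint R → z ⤳ x' → x' ⤳ x → x' = x) :
    (∀ x', p x' = closedPoint R → x' ⤳ x → x' = x) ∧ ∀ z', (∀ w, w ⤳ z' → w = z') → z' ⤳ x → z' = z := by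
  classical
  obtain ⟨U, hU, hxU, -⟩ := exists_isAffineOpen_mem_and_subset (x := x) (U := ⊤) trivial
  let A := Γ(P, U)
  let u : Spec A ⟶ P := hU.fromSpec
  have hru : ∀ w, w ⤳ x → ∃ a, u a = w := fun w hw => by
    show w ∈ Set.range u
    rw [hU.range_fromSpec]
    exact hw.mem_open U.2 hxU
  obtain ⟨ax, hax⟩ := hru x specializes_rfl
  obtain ⟨az, haz⟩ := hru z hzx
  let q := u ≫ p
  let φ := Spec.preimage q
  have hφ : Spec.map φ = q := Spec.map_preimage q
  obtain ⟨ϖ, hϖ⟩ := IsDiscreteValuationRing.exists_irreducible R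
  have hcl : ∀ a : PrimeSpectrum A, p (u a) = closedPoint R ↔ φ.hom ϖ ∈ a.asIdeal := fun a => by
    rw [← Scheme.Hom.comp_apply, show u ≫ p = Spec.map φ from hφ.symm]
    show PrimeSpectrum.comap φ.hom a = closedPoint R ↔ _
    rw [PrimeSpectrum.ext_iff, PrimeSpectrum.comap_asIdeal]
    show Ideal.comap φ.hom a.asIdeal = maximalIdeal R ↔ _
    constructor
    · intro h
      exact Ideal.mem_comap.1 (h.symm ▸ hϖ.not_isUnit)
    · intro h
      refine ((maximalIdeal.isMaximal R).eq_of_le (Ideal.IsPrime.comap φ.hom).ne_top ?_).symm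
      rw [hϖ.maximalIdeal_eq, Ideal.span_singleton_le_iff_mem]
      exact h
  letI : Algebra R A := φ.hom.toAlgebra
  haveI : Module.Flat R A := by
    have : Flat (Spec.map φ) := hφ ▸ inferInstance
    exact RingHom.flat_algebraMap_iff.1 ((HasRingHomProperty.Spec_iff (P := @Flat)).1 this)
  haveI : IsNoetherianRing A := IsLocallyNoetherian.component_noetherian ⟨U, hU⟩
  -- the special fibre of the chart
  have hrad : (Ideal.span {φ.hom ϖ} : Ideal A).IsRadical := by
    let m := Spec.map (CommRingCat.ofHom (algebraMap R (ResidueField R)))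
    haveI : IsReduced (pullback p m) := ‹IsReduced (pullback p (Spec.map (CommRingCat.ofHom (residue R))))›
    let ι := pullback.map q m p m u (𝟙 _) (𝟙 _) (by simp [q]) (by simp)
    haveI : IsOpenImmersion ι := inferInstanceAs (IsOpenImmersion (pullback.map q m p m u (𝟙 _) (𝟙 _) _ _))
    haveI h1 : IsReduced (pullback q m) := isReduced_of_isOpenImmersion ι
    rw [show q = Spec.map (CommRingCat.ofHom (algebraMap R A)) from hφ.symm] at h1
    haveI := h1
    haveI : IsReduced (Spec (CommRingCat.of (TensorProduct R A (ResidueField R)))) :=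
      isReduced_of_isOpenImmersion (pullbackSpecIso R A (ResidueField R)).inv
    haveI : _root_.IsReduced (TensorProduct R A (ResidueField R)) := (affine_isReduced_iff (CommRingCat.of (TensorProduct R A (ResidueField R)))).1 inferInstance
    have e := Algebra.TensorProduct.quotIdealMapEquivTensorQuot A (maximalIdeal R)
    haveI : _root_.IsReduced (TensorProduct R A (R ⧸ maximalIdeal R)) := ‹_root_.IsReduced (TensorProduct R A (ResidueField R))›
    haveI : _root_.IsReduced (A ⧸ (maximalIdeal R).map (algebraMap R A)) :=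
      isReduced_of_injective e.toRingEquiv.toRingHom e.toRingEquiv.injective
    have := (Ideal.isRadical_iff_quotient_reduced _).2 this
    rwa [hϖ.maximalIdeal_eq, Ideal.map_span, Set.image_singleton] at this
  let O := Localization.AtPrime ax.asIdeal
  haveI : Module.Flat R O := by
    haveI : Module.Flat A O := IsLocalization.flat O ax.asIdeal.primeCompl
    exact Module.Flat.trans R A O
  have hreg : IsSMulRegular O (algebraMap A O (φ.hom ϖ)) := by
    have h := (IsRegular.of_ne_zero hϖ.ne_zero).isSMulRegular.of_flat (S := O)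
    rwa [IsScalarTower.algebraMap_apply R A O] at h
  have hspec : ∀ a b : PrimeSpectrum A, u a ⤳ u b ↔ a.asIdeal ≤ b.asIdeal := fun a b =>
    (u.isOpenEmbedding.isInducing.specializes_iff).trans (PrimeSpectrum.le_iff_specializes a b).symm
  have hmax : ∀ a : PrimeSpectrum A, (∀ w, w ⤳ u a → w = u a) →
      ∀ Q : Ideal A, Q.IsPrime → Q ≤ a.asIdeal → Q = a.asIdeal := fun a ha Q hQ hQa =>
    congrArg PrimeSpectrum.asIdeal (u.isOpenEmbedding.injective (ha (u ⟨Q, hQ⟩) ((hspec ⟨Q, hQ⟩ a).2 hQa)))
  obtain ⟨hall, huniq⟩ := eq_of_reduced_mod_prime (φ.hom ϖ) hrad ax.asIdeal az.asIdeal hreg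
    ((hcl ax).1 (hax ▸ hx)) ((hspec az ax).1 (haz.symm ▸ hax.symm ▸ hzx)) (hmax az (haz ▸ hzmax))
    fun Q hQ htQ hle hQx => congrArg PrimeSpectrum.asIdeal (u.isOpenEmbedding.injective
      (((hxmax (u ⟨Q, hQ⟩) ((hcl ⟨Q, hQ⟩).2 htQ) (haz ▸ (hspec az ⟨Q, hQ⟩).2 hle)
        (hax ▸ (hspec ⟨Q, hQ⟩ ax).2 hQx))).trans hax.symm))
  refine ⟨fun x' hx' hx'x => ?_, fun z' hz'max hz'x => ?_⟩
  · obtain ⟨a, rfl⟩ := hru x' hx'x
    rw [← hax]
    exact congrArg u (PrimeSpectrum.ext (hall _ a.2 ((hcl a).1 hx') ((hspec a ax).1 (hax.symm ▸ hx'x))))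
  · obtain ⟨a, rfl⟩ := hru z' hz'x
    rw [← haz]
    exact congrArg u (PrimeSpectrum.ext (huniq _ a.2 ((hspec a ax).1 (hax.symm ▸ hz'x)) (hmax a hz'max)))

/-- Over a discrete valuation ring: no more components in the generic fibre than in a reduced special one. -/
theorem genericPoints_le_special {R : Type u} [CommRing R] [IsDomain R] [IsDiscreteValuationRing R]
    (L : Type u) [Field L] [Algebra R L] [IsFractionRing R L] {P Pk PL : Scheme.{u}}
    (p : P ⟶ Spec (CommRingCat.of R)) [Flat p] [IsProper p]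
    {a : Pk ⟶ P} {b : Pk ⟶ Spec (CommRingCat.of (ResidueField R))} (hk : IsPullback a b p (Spec.map (CommRingCat.ofHom (residue R))))
    [IsReduced Pk]
    {c : PL ⟶ P} {d : PL ⟶ Spec (CommRingCat.of L)} (hL : IsPullback c d p (Spec.map (CommRingCat.ofHom (algebraMap R L)))) :
    (genericPoints ↑PL).encard ≤ (genericPoints ↑Pk).encard := by
  classical
  haveI : IsLocallyNoetherian P := LocallyOfFiniteType.isLocallyNoetherian p
  haveI : IsReduced (pullback p (Spec.map (CommRingCat.ofHom (residue R)))) :=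
    isReduced_of_isOpenImmersion hk.isoPullback.inv
  haveI : IsPreimmersion (Spec.map (CommRingCat.ofHom (algebraMap R L))) := IsPreimmersion.of_isLocalization (nonZeroDivisors R)
  haveI : IsClosedImmersion (Spec.map (CommRingCat.ofHom (residue R))) :=
    IsClosedImmersion.spec_of_surjective _ Ideal.Quotient.mk_surjective
  haveI : IsPreimmersion c := MorphismProperty.of_isPullback (P := @IsPreimmersion) hL.flip inferInstance
  haveI : IsClosedImmersion a := MorphismProperty.of_isPullback (P := @IsClosedImmersion) hk.flip inferInstance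
  let η : Spec (CommRingCat.of R) := (⊥ : PrimeSpectrum R)
  let s : Spec (CommRingCat.of R) := closedPoint R
  have hrc : Set.range c = p ⁻¹' {η} := by
    rw [range_of_isPullback hL.flip, GeomFib.range_SpecMap_field, GeomFib.pt_eq_bot L (IsFractionRing.injective R L)]
    rfl
  have hra : Set.range a = p ⁻¹' {s} := by
    rw [range_of_isPullback hk.flip,
      show residue R = algebraMap R (ResidueField R) from rfl, GeomFib.range_SpecMap_field]
    exact congrArg (fun t => p ⁻¹' {t}) (PrimeSpectrum.ext (ker_residue (R := R)))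
  have hηs : η ⤳ s := (PrimeSpectrum.le_iff_specializes (⊥ : PrimeSpectrum R) (closedPoint R)).1 bot_le
  have hgmax : ∀ g ∈ genericPoints ↑PL, ∀ w, w ⤳ c g → w = c g := fun g hg w hw => by
    have hwη : p w = η := by
      have h1 : p w ⤳ η := by
        have : p (c g) = η := (hrc.le ⟨g, rfl⟩ : c g ∈ p ⁻¹' {η})
        rw [← this]; exact hw.map p.continuous
      exact PrimeSpectrum.ext (le_bot_iff.1 ((PrimeSpectrum.le_iff_specializes (p w : PrimeSpectrum R) ⊥).2 h1))
    obtain ⟨w', rfl⟩ := hrc.ge hwη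
    rw [mem_genericPoints_iff.1 hg w' (c.isEmbedding.isInducing.specializes_iff.1 hw)]
  have hex : ∀ g : genericPoints ↑PL, ∃ y ∈ genericPoints ↑Pk, c g.1 ⤳ a y ∧
      ∀ z', (∀ w, w ⤳ z' → w = z') → z' ⤳ a y → z' = c g.1 := by
    intro ⟨g, hg⟩
    obtain ⟨x₀, hgx₀, hx₀⟩ := p.isClosedMap.specializingMap (show p (c g) ⤳ s from
      ((hrc.le ⟨g, rfl⟩ : c g ∈ p ⁻¹' {η}) : p (c g) = η) ▸ hηs)
    obtain ⟨y₀, rfl⟩ := hra.ge hx₀
    let W : Set ↑Pk := a ⁻¹' closure {c g}
    have hWc : IsClosed W := isClosed_closure.preimage a.continuous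
    haveI : QuasiSober ↥W := hWc.isClosedEmbedding_subtypeVal.quasiSober
    obtain ⟨Z, hZ, hZy⟩ := exists_mem_irreducibleComponents_subset_of_isIrreducible _
      (isIrreducible_singleton (x := (⟨y₀, hgx₀.mem_closure⟩ : W)))
    obtain ⟨y, hy⟩ : ∃ y : W, IsGenericPoint y Z :=
      ⟨_, hZ.1.isGenericPoint_genericPoint (isClosed_of_mem_irreducibleComponents Z hZ)⟩
    have hymax : ∀ y' : W, y' ⤳ y → y' = y :=
      mem_genericPoints_iff.1 (show closure {y} ∈ irreducibleComponents ↥W from hy.def.symm ▸ hZ)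
    obtain ⟨h1, h2⟩ := unique_generisation p (hgmax g hg) (specializes_iff_mem_closure.2 y.2)
      (hra.le ⟨y.1, rfl⟩) (fun x' hx' hgx' hx'x => by
        obtain ⟨y', rfl⟩ := hra.ge hx'
        have := hymax ⟨y', hgx'.mem_closure⟩
          ((subtype_specializes_iff _ _).2 (a.isEmbedding.isInducing.specializes_iff.1 hx'x))
        rw [← this])
    refine ⟨y.1, mem_genericPoints_iff.2 fun w hw => a.isEmbedding.injective ?_,
      specializes_iff_mem_closure.2 y.2, h2⟩
    exact h1 (a w) (hra.le ⟨w, rfl⟩) (hw.map a.continuous)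
  choose y hy hgy huniq using hex
  refine ENat.card_le_card_of_injective (f := fun g : genericPoints ↑PL => (⟨y g, hy g⟩ : genericPoints ↑Pk)) ?_
  intro g g' h
  have h' : y g = y g' := congrArg Subtype.val h
  exact Subtype.ext (c.isEmbedding.injective (huniq g' (c g.1) (hgmax g.1 g.2) (h' ▸ hgy g)))

set_option maxHeartbeats 1000000 in
/-- The number of geometric components does not drop on specialisation. -/
theorem nGeomIrredComp_le_of_specializes {X Y : Scheme.{u}} [IsLocallyNoetherian Y] (f : X ⟶ Y) [Flat f] [IsProper f]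
    {y' y : Y} (h : y' ⤳ y) (hred : GeometricallyReduced (f.fiberToSpecResidueField y)) :
    MoreMor.nGeomIrredComp f y' ≤ MoreMor.nGeomIrredComp f y := by
  classical
  by_cases hne : y' = y
  · rw [hne]
  obtain ⟨A₀, g₀, hA₀, hg₀, hgen₀⟩ := DvrDom.exists_dvr_through (𝟙 Y) y' y h (Ne.symm hne)
  rw [Category.comp_id] at hgen₀
  let κ := Y.residueField y'
  let fK := pullback.snd f (Y.fromSpecResidueField y')
  obtain ⟨L, _, _, _, hL⟩ := exists_geomIntegral_components κ fK
  let φ : A₀ →+* L := (algebraMap κ L).comp A₀.subtype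
  have hφ : φ.EssFiniteType := RingHom.EssFiniteType.comp
    (RingHom.essFiniteType_algebraMap.mpr (Algebra.EssFiniteType.of_isLocalization κ (nonZeroDivisors A₀)))
    (RingHom.essFiniteType_algebraMap.mpr inferInstance)
  obtain ⟨ϖ, hϖ⟩ := IsDiscreteValuationRing.exists_irreducible A₀
  obtain ⟨R, hR, hmem, hval⟩ := DvrDom.exists_dvr_dominating_hom (A := A₀) φ hφ hϖ.not_isUnit
    (fun h0 => hϖ.ne_zero (Subtype.ext ((algebraMap κ L).injective (h0.trans (map_zero _).symm))))
  let ψ : A₀ →+* R := φ.codRestrict R.toSubring hmem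
  haveI : IsLocalHom ψ := ⟨fun a ha ↦ by
    by_contra hu
    have := hval a ((IsLocalRing.mem_maximalIdeal a).mpr hu)
    exact this.ne ((R.valuation_eq_one_iff (ψ a)).mp ha)⟩
  let g : Spec (CommRingCat.of R) ⟶ Y := Spec.map (CommRingCat.ofHom ψ) ≫ g₀
  have hgc : g (closedPoint R) = y := by
    refine (Scheme.Hom.comp_apply _ _ _).trans ((congrArg g₀ ?_).trans hg₀)
    exact IsLocalRing.comap_closedPoint ψ
  let eL := Spec.map (CommRingCat.ofHom (algebraMap R L))
  let ek := Spec.map (CommRingCat.ofHom (residue R))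
  let mL := Spec.map (CommRingCat.ofHom (algebraMap κ L))
  have hfac : eL ≫ g = mL ≫ Y.fromSpecResidueField y' := by
    rw [← hgen₀]
    simp only [eL, g, mL, ← Spec.map_comp_assoc, ← CommRingCat.ofHom_comp]
    rfl
  let k := ResidueField R
  have hvy : (ek ≫ g) (closedPoint k) = y := by
    rw [Scheme.Hom.comp_apply]
    exact (congrArg g (comap_closedPoint (residue R))).trans hgc
  let P := pullback f g
  let p : P ⟶ Spec (CommRingCat.of R) := pullback.snd f g
  have hk : IsPullback (pullback.fst p ek) (pullback.snd p ek) p ek := .of_hasPullback _ _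
  haveI : IsReduced (pullback p ek) := by
    obtain ⟨σ, hσ⟩ := GeomFib.exists_fac_residueField (ek ≫ g) y hvy
    let e : pullback p ek ≅ pullback (f.fiberToSpecResidueField y) (Spec.map σ) :=
      pullbackLeftPullbackSndIso f g ek ≪≫ pullback.congrHom rfl hσ.symm ≪≫
        (pullbackLeftPullbackSndIso f (Y.fromSpecResidueField y) (Spec.map σ)).symm
    haveI : IsReduced (pullback (f.fiberToSpecResidueField y) (Spec.map σ)) :=
      hred.geometrically_isReduced _ (pullback.fst _ _) (pullback.snd _ _) (.of_hasPullback _ _)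
    exact isReduced_of_isOpenImmersion e.hom
  let PL := pullback fK mL
  let aL : PL ⟶ X := pullback.fst fK mL ≫ pullback.fst f (Y.fromSpecResidueField y')
  have hout : IsPullback aL (pullback.snd fK mL) f (eL ≫ g) := by
    rw [hfac]
    exact (IsPullback.of_hasPullback fK _).paste_horiz (IsPullback.of_hasPullback f _)
  let jL : PL ⟶ P := pullback.lift aL (pullback.snd fK mL ≫ eL) (hout.w.trans (Category.assoc _ _ _).symm)
  have hjL : IsPullback jL (pullback.snd fK mL) p eL := by
    refine IsPullback.of_right ?_ (pullback.lift_snd _ _ _) (IsPullback.of_hasPullback f g)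
    rwa [pullback.lift_fst]
  have h1 := genericPoints_le_special L p hk hjL
  -- special side
  let K₁ := AlgebraicClosure k
  let v₁ : Spec (CommRingCat.of K₁) ⟶ Y := Spec.map (CommRingCat.ofHom (algebraMap k K₁)) ≫ ek ≫ g
  have h2 : (genericPoints ↑(pullback p ek)).encard ≤ MoreMor.nGeomIrredComp f y := by
    obtain ⟨q, -, hq⟩ := GeomFib.exists_bc f (K := k) (L := K₁) (ek ≫ g) v₁ rfl
    rw [(GeomFib.nGeom_eq f v₁ y (by
      rw [Scheme.Hom.comp_apply]
      exact (congrArg (ek ≫ g) (comap_closedPoint (algebraMap k K₁))).trans hvy)).1, ← encard_genericPoints]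
    refine le_trans ?_ (encard_genericPoints_le q.continuous (GeomFib.bc_props hq).1)
    exact encard_genericPoints_le (pullbackLeftPullbackSndIso f g ek).inv.continuous
      (pullbackLeftPullbackSndIso f g ek).inv.surjective
  -- generic side
  let K₂ := AlgebraicClosure L
  let w := Spec.map (CommRingCat.ofHom (algebraMap L K₂))
  have h3 : MoreMor.nGeomIrredComp f y' ≤ (genericPoints ↑PL).encard := by
    let e : pullback (pullback.snd fK mL) w ≅ pullback f (w ≫ mL ≫ Y.fromSpecResidueField y') :=
      pullbackLeftPullbackSndIso fK mL w ≪≫ pullbackLeftPullbackSndIso f _ (w ≫ mL) ≪≫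
        pullback.congrHom rfl (Category.assoc _ _ _)
    rw [(GeomFib.nGeom_eq f (w ≫ mL ≫ Y.fromSpecResidueField y') y' (by
      rw [Scheme.Hom.comp_apply, Scheme.Hom.comp_apply]
      exact Y.fromSpecResidueField_apply y' _)).1, ← encard_genericPoints]
    refine (encard_genericPoints_le e.hom.continuous e.hom.surjective).trans ?_
    let q := pullback.fst (pullback.snd fK mL) w
    have hgen : ∀ a ∈ genericPoints ↑(pullback (pullback.snd fK mL) w), q a ∈ genericPoints ↑PL := by
      intro a ha
      refine mem_genericPoints_iff.2 fun x hx => ?_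
      haveI : Flat q := MorphismProperty.pullback_fst _ _ (by
        rw [HasRingHomProperty.Spec_iff (P := @Flat)]
        exact RingHom.flat_algebraMap_iff.2 inferInstance)
      obtain ⟨a', ha', rfl⟩ := Flat.generalizingMap q hx
      rw [mem_genericPoints_iff.1 ha a' ha']
    refine le_trans ?_ (Set.encard_mono (Set.image_subset_iff.2 hgen : q '' genericPoints _ ⊆ genericPoints ↑PL))
    rw [Set.InjOn.encard_image]
    intro a ha a' ha' haa'
    let W : Closeds ↑PL := ⟨closure {q a}, isClosed_closure⟩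
    let zι := (Scheme.IdealSheafData.vanishingIdeal W).subschemeι
    haveI := DvrDom.isReduced_vanishingIdeal_subscheme W
    have hrz : Set.range zι = closure {q a} := by
      rw [Scheme.IdealSheafData.range_subschemeι, support_vi]; rfl
    have hgi : GeometricallyIntegral (zι ≫ pullback.snd fK mL) := hL _ zι (hrz.symm ▸ hgen a ha)
    haveI := hgi.geometrically_isIntegral w (pullback.fst (zι ≫ pullback.snd fK mL) w) (pullback.snd _ _)
      (.of_hasPullback _ _)
    let r : pullback (zι ≫ pullback.snd fK mL) w ⟶ pullback (pullback.snd fK mL) w :=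
      pullback.map _ _ _ _ zι (𝟙 _) (𝟙 _) (by simp) (by simp)
    have hr : Set.range r = q ⁻¹' closure {q a} := by
      rw [Scheme.Pullback.range_map, hrz]
      simp [q]
    have hirr : IsIrreducible (q ⁻¹' closure {q a}) := by
      rw [← hr, ← Set.image_univ]
      exact (IrreducibleSpace.isIrreducible_univ _).image _ r.continuous.continuousOn
    obtain ⟨b, hb⟩ : ∃ b, IsGenericPoint b (q ⁻¹' closure {q a}) :=
      ⟨_, hirr.isGenericPoint_genericPoint (isClosed_closure.preimage q.continuous)⟩
    have hab : b ⤳ a := hb.specializes (subset_closure rfl)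
    have hab' : b ⤳ a' := hb.specializes (show q a' ∈ closure {q a} from haa' ▸ subset_closure rfl)
    rw [← mem_genericPoints_iff.1 ha b hab, mem_genericPoints_iff.1 ha' b hab']
  exact h3.trans (h1.trans h2)

end Groth.Agent.SmoothStrat
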