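import Groth.Agent.S0414
import Groth.Agent.DvrDom.ClosedProper
import Mathlib.AlgebraicGeometry.Fiber
import Mathlib.AlgebraicGeometry.Noetherian
import Mathlib.AlgebraicGeometry.Morphisms.UniversallyOpen

/-! A morphism of finite type to an integral affine scheme is quasi-separated over a nonempty open. -/

set_option autoImplicit false
set_option linter.style.haveILetI false
set_option backward.isDefEq.respectTransparency false
universe u
open CategoryTheory CategoryTheory.Limits AlgebraicGeometry TopologicalSpace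

noncomputable section

namespace Groth.Agent.SmoothStrat

theorem exists_qs_restrict (B : Type u) [CommRing B] [IsDomain B] {X : Scheme.{u}}
    (f : X ⟶ Spec (CommRingCat.of B)) [LocallyOfFiniteType f] [QuasiCompact f] :
    ∃ b : B, b ≠ 0 ∧ QuasiSeparated (f ∣_ PrimeSpectrum.basicOpen b) := by
  classical
  haveI : CompactSpace X := HasAffineProperty.iff_of_isAffine.1 ‹QuasiCompact f›
  let η : Spec (CommRingCat.of B) := (⊥ : PrimeSpectrum B)
  have hgen : ∀ O : (Spec (CommRingCat.of B)).Opens, (O : Set (Spec (CommRingCat.of B))).Nonempty → η ∈ O := by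
    rintro O ⟨x, hx⟩
    exact ((PrimeSpectrum.le_iff_specializes (⊥ : PrimeSpectrum B) x).1 bot_le).mem_open O.2 hx
  -- the generic fibre is a noetherian space
  haveI : LocallyOfFiniteType (f.fiberToSpecResidueField η) := MorphismProperty.pullback_snd _ _ inferInstance
  haveI : QuasiCompact (f.fiberToSpecResidueField η) := MorphismProperty.pullback_snd _ _ inferInstance
  haveI : IsLocallyNoetherian (f.fiber η) := LocallyOfFiniteType.isLocallyNoetherian (f.fiberToSpecResidueField η)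
  haveI : CompactSpace ↑(f.fiber η) :=
    HasAffineProperty.iff_of_isAffine.1 (inferInstance : QuasiCompact (f.fiberToSpecResidueField η))
  haveI : IsNoetherian (f.fiber η) := {}
  have hfib : ∀ U : X.Opens, IsCompact ((U : Set X) ∩ f ⁻¹' {η}) := by
    intro U
    have h := (NoetherianSpace.isCompact (f.fiberι η ⁻¹' (U : Set X))).image (f.fiberι η).continuous
    rwa [Set.image_preimage_eq_inter_range, Scheme.Hom.range_fiberι] at h
  -- each piece
  have key : ∀ (W U : X.Opens), IsAffineOpen W → U ≤ W → ∃ (U' : X.Opens) (b : B), b ≠ 0 ∧ U' ≤ U ∧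
      (∀ g : Γ(X, ⊤), IsCompact ((U' ⊓ X.basicOpen g : X.Opens) : Set X)) ∧
      ∀ x ∈ U, f x ∈ (PrimeSpectrum.basicOpen b : Set (PrimeSpectrum B)) → x ∈ U' := by
    intro W U hW hUW
    have hcov : ((U : Set X) ∩ f ⁻¹' {η}) ⊆ ⋃ s : {s : Γ(X, W) // X.basicOpen s ≤ U}, (X.basicOpen s.1 : Set X) := by
      rintro x ⟨hx, -⟩
      obtain ⟨s, hs, hxs⟩ := hW.exists_basicOpen_le ⟨x, hx⟩ (hUW hx)
      exact Set.mem_iUnion.2 ⟨⟨s, hs⟩, hxs⟩
    obtain ⟨t, ht⟩ := (hfib U).elim_finite_subcover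
      (fun s : {s : Γ(X, W) // X.basicOpen s ≤ U} => (X.basicOpen s.1 : Set X)) (fun s => (X.basicOpen s.1).2) hcov
    let U' : X.Opens := ⨆ s : t, X.basicOpen s.1.1
    have hU'le : U' ≤ U := iSup_le fun s => s.1.2
    have hU'c : ∀ g : Γ(X, ⊤), IsCompact ((U' ⊓ X.basicOpen g : X.Opens) : Set X) := by
      intro g
      rw [iSup_inf_eq, Opens.coe_iSup]
      refine isCompact_iUnion fun s => ?_
      rw [← Scheme.basicOpen_res _ g (homOfLE (le_top : X.basicOpen s.1.1 ≤ ⊤)).op]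
      exact ((hW.basicOpen s.1.1).basicOpen _).isCompact
    have hU'η : ∀ x ∈ U, f x = η → x ∈ U' := fun x hx hη => by
      obtain ⟨s, hs, hxs⟩ := Set.mem_iUnion₂.1 (ht ⟨hx, hη⟩)
      exact Opens.mem_iSup.2 ⟨⟨s, hs⟩, hxs⟩
    let Zc : Closeds W.toScheme := ⟨(W.ι ⁻¹ᵁ U' : Set W.toScheme)ᶜ, (W.ι ⁻¹ᵁ U').2.isClosed_compl⟩
    let I := Scheme.IdealSheafData.vanishingIdeal Zc
    haveI : IsAffine W.toScheme := hW
    haveI : IsReduced I.subscheme := DvrDom.isReduced_vanishingIdeal_subscheme _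
    let z := I.subschemeι ≫ W.ι
    haveI : LocallyOfFiniteType (z ≫ f) := inferInstance
    haveI : QuasiCompact (W.ι ≫ f) :=
      (HasAffineProperty.iff_of_isAffine (P := @QuasiCompact)).2 inferInstance
    haveI : QuasiCompact (z ≫ f) := by
      rw [show z ≫ f = I.subschemeι ≫ W.ι ≫ f from Category.assoc _ _ _]; infer_instance
    obtain ⟨O, hOd, hOflat, hOfp⟩ := S0414.result (z ≫ f)
    obtain ⟨_, ⟨b, rfl⟩, hηb, hbO⟩ :=
      PrimeSpectrum.isTopologicalBasis_basic_opens.exists_subset_of_mem_open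
        (show η ∈ O from hgen O hOd.nonempty) O.2
    refine ⟨U', b, fun hb => by simp [hb] at hηb, hU'le, hU'c, fun x hx hxb => ?_⟩
    by_contra hxU'
    haveI : UniversallyOpen ((z ≫ f) ∣_ O) := UniversallyOpen.of_flat _
    obtain ⟨p, hp⟩ : (⟨x, hUW hx⟩ : W.toScheme) ∈ Set.range I.subschemeι := by
      rw [I.range_subschemeι, Scheme.IdealSheafData.coe_support_vanishingIdeal]
      exact hxU'
    have hzp : z p = x := by
      show W.ι (I.subschemeι p) = x
      rw [hp]; rfl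
    let G : ((z ≫ f) ⁻¹ᵁ O).toScheme.Opens := ((z ≫ f) ⁻¹ᵁ O).ι ⁻¹ᵁ (z ⁻¹ᵁ U)
    have hne : ((((z ≫ f) ∣_ O).isOpenMap.functor.obj G : O.toScheme.Opens) : Set O.toScheme).Nonempty := by
      refine ⟨_, ⟨⟨p, ?_⟩, ?_, rfl⟩⟩
      · show f (z p) ∈ O
        rw [hzp]; exact hbO hxb
      · show z p ∈ U
        rw [hzp]; exact hx
    obtain ⟨y, hy, hyη⟩ : η ∈ O.ι '' (((z ≫ f) ∣_ O) '' (G : Set _)) := by
      have : η ∈ (O.ι ''ᵁ (((z ≫ f) ∣_ O).isOpenMap.functor.obj G)) := hgen _ (hne.image _)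
      exact this
    obtain ⟨w, hwG, rfl⟩ := hy
    have hfη : f (z (((z ≫ f) ⁻¹ᵁ O).ι w)) = η := by
      rw [← hyη]
      exact (congrArg (fun φ : ((z ≫ f) ⁻¹ᵁ O).toScheme ⟶ Spec (CommRingCat.of B) => φ w)
        (morphismRestrict_ι (z ≫ f) O)).symm
    have h1 := hU'η _ hwG hfη
    have h2 : I.subschemeι (((z ≫ f) ⁻¹ᵁ O).ι w) ∈ Set.range I.subschemeι := ⟨_, rfl⟩
    rw [I.range_subschemeι, Scheme.IdealSheafData.coe_support_vanishingIdeal] at h2
    exact h2 h1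
  obtain ⟨t, ht⟩ := (isCompact_univ (X := X)).elim_finite_subcover (fun W : X.affineOpens => (W.1 : Set X))
    (fun W => W.1.2) (fun x _ => by
      obtain ⟨V, hV, hxV, -⟩ := exists_isAffineOpen_mem_and_subset (x := x) (U := ⊤) trivial
      exact Set.mem_iUnion.mpr ⟨⟨V, hV⟩, hxV⟩)
  choose U' b hb hU'le hU'c hU' using fun p : t × t => key p.1.1.1 (p.1.1.1 ⊓ p.2.1.1) p.1.1.2 inf_le_left
  refine ⟨∏ p, b p, Finset.prod_ne_zero_iff.2 fun p _ => hb p, ?_⟩
  let D : (Spec (CommRingCat.of B)).Opens := PrimeSpectrum.basicOpen (∏ p, b p)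
  haveI : IsAffine D.toScheme := IsAffineOpen.Spec_basicOpen (R := CommRingCat.of B) _
  show QuasiSeparated (f ∣_ D)
  rw [HasAffineProperty.iff_of_isAffine (P := @QuasiSeparated)]
  let g : Γ(X, ⊤) := f.appTop ((Scheme.ΓSpecIso (CommRingCat.of B)).inv (∏ p, b p))
  have hg : f ⁻¹ᵁ D = X.basicOpen g := by
    have := Scheme.preimage_basicOpen f ((Scheme.ΓSpecIso (CommRingCat.of B)).inv (∏ p, b p))
    rw [basicOpen_eq_of_affine' (R := CommRingCat.of B), Iso.inv_hom_id_apply] at this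
    exact this
  have hcov : IsOpenCover (fun W : t => (f ⁻¹ᵁ D).ι ⁻¹ᵁ W.1.1) := by
    refine top_le_iff.1 fun x _ => Opens.mem_iSup.2 ?_
    obtain ⟨W, hW, hx⟩ := Set.mem_iUnion₂.1 (ht (Set.mem_univ ((f ⁻¹ᵁ D).ι x)))
    exact ⟨⟨W, hW⟩, hx⟩
  refine Scheme.quasiSeparatedSpace_of_isOpenCover _ hcov (fun W => ?_) (fun W V => ?_)
  · rw [← Scheme.Hom.isAffineOpen_iff_of_isOpenImmersion (f ⁻¹ᵁ D).ι, Scheme.Hom.image_preimage_eq_opensRange_inf,
      Scheme.Opens.opensRange_ι, hg, inf_comm, ← Scheme.basicOpen_res _ g (homOfLE (le_top : W.1.1 ≤ ⊤)).op]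
    exact W.1.2.basicOpen _
  · rw [(f ⁻¹ᵁ D).ι.isOpenEmbedding.isCompact_iff]
    have e : (f ⁻¹ᵁ D).ι '' (((f ⁻¹ᵁ D).ι ⁻¹ᵁ W.1.1 : Set _) ∩ ((f ⁻¹ᵁ D).ι ⁻¹ᵁ V.1.1 : Set _)) =
        ((U' (W, V) ⊓ X.basicOpen g : X.Opens) : Set X) := by
      rw [← hg]
      ext x
      constructor
      · rintro ⟨y, ⟨hyW, hyV⟩, rfl⟩
        refine ⟨hU' (W, V) _ ⟨hyW, hyV⟩ ?_, y.2⟩
        have hy : f ((f ⁻¹ᵁ D).ι y) ∈ (PrimeSpectrum.basicOpen (∏ p, b p) : Set (PrimeSpectrum B)) := y.2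
        intro hmem
        obtain ⟨c, hc⟩ := Finset.dvd_prod_of_mem b (Finset.mem_univ (W, V))
        apply hy
        show (∏ p, b p) ∈ _
        rw [hc]
        exact Ideal.mul_mem_right _ _ hmem
      · rintro ⟨hx, hxD⟩
        exact ⟨⟨x, hxD⟩, hU'le (W, V) hx, rfl⟩
    exact e ▸ hU'c (W, V) g

end Groth.Agent.SmoothStrat
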