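import Groth.Agent.SmoothStrat.Domain
import Groth.Agent.S0414
import Groth.Agent.GeomRedSpread.Constructible
import Groth.Agent.S1629
import Groth.Agent.EtaPt.UnivHomeo
import Groth.Agent.SmoothStrat.QsShrink
import Groth.Prelude.Def_Flat

/-! Geometrically reduced generic fibre after a finite universal homeomorphism. -/

set_option autoImplicit false
set_option linter.style.haveILetI false
set_option backward.isDefEq.respectTransparency false
universe u
open CategoryTheory CategoryTheory.Limits AlgebraicGeometry TopologicalSpace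

noncomputable section

namespace Groth.Agent.SmoothStrat

/-- The reduced subscheme of `Y` restricted to an open subscheme. -/
theorem exists_reduced_open {Y T : Scheme.{u}} (q : Y ⟶ T) {P : Scheme.{u}} (j : P ⟶ Y) [IsOpenImmersion j] :
    ∃ l : (Scheme.IdealSheafData.vanishingIdeal (⊤ : Closeds P)).subscheme ⟶
        (Scheme.IdealSheafData.vanishingIdeal (⊤ : Closeds Y)).subscheme,
      IsOpenImmersion l ∧
        IsPullback l (Scheme.IdealSheafData.vanishingIdeal (⊤ : Closeds P)).subschemeι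
          (Scheme.IdealSheafData.vanishingIdeal (⊤ : Closeds Y)).subschemeι j := by
  let IY := Scheme.IdealSheafData.vanishingIdeal (⊤ : Closeds Y)
  let IP := Scheme.IdealSheafData.vanishingIdeal (⊤ : Closeds P)
  haveI : IsReduced IY.subscheme := DvrDom.isReduced_vanishingIdeal_subscheme _
  haveI : IsReduced IP.subscheme := DvrDom.isReduced_vanishingIdeal_subscheme _
  haveI : IsReduced (pullback IY.subschemeι j) := isReduced_of_isOpenImmersion (pullback.fst IY.subschemeι j)
  have hr : Set.range IP.subschemeι = Set.range (pullback.snd IY.subschemeι j) := by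
    rw [Scheme.Pullback.range_snd, Scheme.IdealSheafData.range_subschemeι, Scheme.IdealSheafData.range_subschemeι,
      support_vi, support_vi]
    simp
  obtain ⟨e, he⟩ := exists_iso_of_immersion IP.subschemeι (pullback.snd IY.subschemeι j) hr
  refine ⟨e.hom ≫ pullback.fst IY.subschemeι j, inferInstance, ?_⟩
  exact IsPullback.of_iso_pullback ⟨by rw [Category.assoc, pullback.condition, reassoc_of% he]⟩ e rfl he

theorem range_vi_top (Y : Scheme.{u}) :
    Set.range (Scheme.IdealSheafData.vanishingIdeal (⊤ : Closeds Y)).subschemeι = Set.univ := by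
  rw [Scheme.IdealSheafData.range_subschemeι, support_vi]; rfl

theorem exists_geomReduced_model (A : Type u) [CommRing A] (hirr : IrreducibleSpace (PrimeSpectrum A))
    {X : Scheme.{u}} (f : X ⟶ Spec (CommRingCat.of A)) [LocallyOfFiniteType f] [QuasiCompact f] :
    ∃ (V : (Spec (CommRingCat.of A)).Opens) (Y' : Scheme.{u}) (g : Y' ⟶ V.toScheme)
      (X' : Scheme.{u}) (r : X' ⟶ pullback f (g ≫ V.ι)) (_hY' : IsIntegral Y'),
      (V : Set (Spec (CommRingCat.of A))).Nonempty ∧ IsAffine Y' ∧ IsFinite g ∧ FlatMor.IsUnivHomeo g ∧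
      IsClosedImmersion r ∧ AlgebraicGeometry.Surjective r ∧ IsReduced X' ∧
      Flat (r ≫ pullback.snd f (g ≫ V.ι)) ∧ LocallyOfFinitePresentation (r ≫ pullback.snd f (g ≫ V.ι)) ∧
      QuasiSeparated (r ≫ pullback.snd f (g ≫ V.ι)) ∧
      GeometricallyReduced ((r ≫ pullback.snd f (g ≫ V.ι)).fiberToSpecResidueField (genericPoint Y')) := by
  classical
  haveI hp : (nilradical A).IsPrime := (PrimeSpectrum.irreducibleSpace_iff_isPrime_nilradical).1 hirr
  let B := A ⧸ nilradical A
  let K := FractionRing B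
  let τ : Spec (CommRingCat.of B) ⟶ Spec (CommRingCat.of A) := Spec.map (CommRingCat.ofHom (Ideal.Quotient.mk _))
  haveI : IsClosedImmersion τ := IsClosedImmersion.spec_of_surjective _ Ideal.Quotient.mk_surjective
  haveI : AlgebraicGeometry.Surjective τ := ⟨fun (q : PrimeSpectrum A) => by
    change q ∈ Set.range (PrimeSpectrum.comap (Ideal.Quotient.mk (nilradical A)))
    rw [range_comap_of_surjective _ _ Ideal.Quotient.mk_surjective, PrimeSpectrum.mem_zeroLocus, Ideal.mk_ker]
    exact nilradical_le_prime q.asIdeal⟩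
  haveI : UniversallyInjective τ := inferInstance
  let mK := Spec.map (CommRingCat.ofHom (algebraMap B K))
  let fB := pullback.snd f τ
  let fK := pullback.snd fB mK
  letI : (pullback fB mK).Over (Spec (CommRingCat.of K)) := ⟨fK⟩
  haveI : LocallyOfFiniteType ((pullback fB mK) ↘ Spec (CommRingCat.of K)) := inferInstanceAs (LocallyOfFiniteType fK)
  haveI : CompactSpace ↑(pullback fB mK) := HasAffineProperty.iff_of_isAffine.1 (inferInstance : QuasiCompact fK)
  haveI : IsNoetherian (pullback fB mK) := { __ := LocallyOfFiniteType.isLocallyNoetherian fK }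
  obtain ⟨L, _, _, _, _, hL⟩ := S1629.result K (pullback fB mK) NoetherianSpace.finite_irreducibleComponents
  letI : Algebra B L := ((algebraMap K L).comp (algebraMap B K)).toAlgebra
  haveI : IsScalarTower B K L := .of_algebraMap_eq fun _ => rfl
  obtain ⟨C, hfin, hC⟩ := exists_finite_model B K L
  haveI := hfin
  haveI : IsFractionRing C L := isFractionRing_model (K := K) hC
  obtain ⟨b₁, hb₁, huniv⟩ := exists_radicial (K := K) C
  have hinjB : Function.Injective (algebraMap B L) := by
    rw [IsScalarTower.algebraMap_eq B K L]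
    exact (algebraMap K L).injective.comp (IsFractionRing.injective B K)
  have hinj : Function.Injective (algebraMap B C) := fun x y h => hinjB (congrArg Subtype.val h)
  let v₀ := Spec.map (CommRingCat.ofHom (algebraMap B C))
  haveI : IsFinite v₀ := (IsFinite.SpecMap_iff _).2 (RingHom.finite_algebraMap.2 inferInstance)
  haveI : Algebra.IsIntegral B C := Algebra.IsIntegral.of_finite B C
  haveI : AlgebraicGeometry.Surjective v₀ := ⟨fun (x : PrimeSpectrum B) => by
      obtain ⟨Q, -, hQ, hQx⟩ := Ideal.exists_ideal_over_prime_of_isIntegral x.asIdeal (⊥ : Ideal C) (by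
        rw [← RingHom.ker_eq_comap_bot, (RingHom.injective_iff_ker_eq_bot _).1 hinj]
        exact bot_le)
      exact ⟨⟨Q, hQ⟩, PrimeSpectrum.ext hQx⟩⟩
  let Y₀ := Spec (CommRingCat.of C)
  let h₀ : Y₀ ⟶ Spec (CommRingCat.of A) := v₀ ≫ τ
  let P₀ := pullback f h₀
  let I₀ := Scheme.IdealSheafData.vanishingIdeal (⊤ : Closeds P₀)
  haveI : IsReduced I₀.subscheme := DvrDom.isReduced_vanishingIdeal_subscheme _
  let q₀ := I₀.subschemeι ≫ pullback.snd f h₀
  haveI : IsReduced Y₀ := inferInstanceAs (IsReduced (Spec (CommRingCat.of C)))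
  obtain ⟨O, hOd, hOflat, hOfp⟩ := S0414.result q₀
  -- an element of `B` whose open lies inside `O`
  obtain ⟨c, hcO, hc⟩ : ∃ c : C, PrimeSpectrum.basicOpen c ≤ O ∧ c ≠ 0 := by
    obtain ⟨x, hx⟩ : (O : Set Y₀).Nonempty := hOd.nonempty
    obtain ⟨_, ⟨c, rfl⟩, hxc, hcO⟩ :=
      PrimeSpectrum.isTopologicalBasis_basic_opens.exists_subset_of_mem_open hx O.2
    exact ⟨c, hcO, fun h => by simp [h] at hxc⟩
  have hne : (Ideal.span {c}).comap (algebraMap B C) ≠ ⊥ :=
    Ideal.comap_ne_bot_of_algebraic_mem (x := c) hc (Ideal.mem_span_singleton_self c)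
      (Algebra.IsIntegral.isIntegral c).isAlgebraic
  obtain ⟨b₂, hb₂, hb₂0⟩ := Submodule.exists_mem_ne_zero_of_ne_bot hne
  obtain ⟨d, hd⟩ := Ideal.mem_span_singleton'.1 (Ideal.mem_comap.1 hb₂)
  obtain ⟨b₃, hb₃, hqs⟩ := exists_qs_restrict B fB
  obtain ⟨a, ha⟩ := Ideal.Quotient.mk_surjective (b₁ * b₂ * b₃)
  let V : (Spec (CommRingCat.of A)).Opens := PrimeSpectrum.basicOpen a
  let UB : (Spec (CommRingCat.of B)).Opens := PrimeSpectrum.basicOpen (b₁ * b₂ * b₃)
  have hVB : τ ⁻¹ᵁ V = UB := by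
    ext q
    show a ∉ (PrimeSpectrum.comap (Ideal.Quotient.mk _) q).asIdeal ↔ b₁ * b₂ * b₃ ∉ q.asIdeal
    rw [← ha]
    rfl
  let g : (h₀ ⁻¹ᵁ V).toScheme ⟶ V.toScheme := h₀ ∣_ V
  have hgι : g ≫ V.ι = (h₀ ⁻¹ᵁ V).ι ≫ h₀ := morphismRestrict_ι h₀ V
  haveI : IsFinite h₀ := inferInstance
  haveI : IsFinite g := MorphismProperty.of_isPullback (P := @IsFinite) (isPullback_morphismRestrict h₀ V).flip ‹_›
  haveI : AlgebraicGeometry.Surjective g :=
    MorphismProperty.of_isPullback (P := @AlgebraicGeometry.Surjective) (isPullback_morphismRestrict h₀ V).flip inferInstance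
  haveI : UniversallyInjective g := by
    show UniversallyInjective ((v₀ ≫ τ) ∣_ V)
    rw [morphismRestrict_comp]
    have h1 : UniversallyInjective (v₀ ∣_ (τ ⁻¹ᵁ V)) := by
      rw [hVB]
      exact MorphismProperty.of_isPullback (P := @UniversallyInjective)
        (isPullback_restrict_le v₀ ((PrimeSpectrum.basicOpen_mul_le_left (b₁ * b₂) b₃).trans
          (PrimeSpectrum.basicOpen_mul_le_left b₁ b₂))).flip huniv
    exact MorphismProperty.comp_mem @UniversallyInjective _ _ h1
      (MorphismProperty.of_isPullback (P := @UniversallyInjective) (isPullback_morphismRestrict τ V).flip inferInstance)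
  let F := g ≫ V.ι
  let P := pullback f F
  let j : P ⟶ P₀ := pullback.lift (pullback.fst f F) (pullback.snd f F ≫ (h₀ ⁻¹ᵁ V).ι)
    (by rw [Category.assoc, ← hgι]; exact pullback.condition)
  have hj : IsPullback j (pullback.snd f F) (pullback.snd f h₀) (h₀ ⁻¹ᵁ V).ι := by
    refine IsPullback.of_right ?_ (pullback.lift_snd _ _ _) (IsPullback.of_hasPullback f h₀)
    rw [pullback.lift_fst, ← hgι]
    exact IsPullback.of_hasPullback f F
  haveI : IsOpenImmersion j := MorphismProperty.of_isPullback (P := @IsOpenImmersion) hj.flip inferInstance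
  let I := Scheme.IdealSheafData.vanishingIdeal (⊤ : Closeds P)
  haveI : IsReduced I.subscheme := DvrDom.isReduced_vanishingIdeal_subscheme _
  let q := I.subschemeι ≫ pullback.snd f F
  obtain ⟨l, hl, hlsq⟩ := exists_reduced_open (pullback.snd f h₀) j
  have hlι := hlsq.w
  have hbotY : (⊥ : PrimeSpectrum C) ∈ (h₀ ⁻¹ᵁ V : Y₀.Opens) := by
    show a ∉ (PrimeSpectrum.comap (Ideal.Quotient.mk _) (PrimeSpectrum.comap (algebraMap B C) (⊥ : PrimeSpectrum C))).asIdeal
    show algebraMap B C (Ideal.Quotient.mk _ a) ∉ (⊥ : Ideal C)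
    rw [ha, Submodule.mem_bot]
    exact fun h => mul_ne_zero (mul_ne_zero hb₁ hb₂0) hb₃ (hinj (h.trans (map_zero _).symm))
  haveI : Nonempty (h₀ ⁻¹ᵁ V).toScheme := ⟨⟨_, hbotY⟩⟩
  haveI : IsIntegral (h₀ ⁻¹ᵁ V).toScheme := isIntegral_of_isOpenImmersion (h₀ ⁻¹ᵁ V).ι
  have hVne : (V : Set (Spec (CommRingCat.of A))).Nonempty := ⟨h₀ (⊥ : PrimeSpectrum C), hbotY⟩
  haveI : IsAffine (h₀ ⁻¹ᵁ V).toScheme :=
    ((IsAffineOpen.Spec_basicOpen (R := CommRingCat.of A) a).preimage h₀ : IsAffineOpen (h₀ ⁻¹ᵁ V))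
  have hsub : (h₀ ⁻¹ᵁ V : Y₀.Opens) ≤ O := by
    intro x hx
    apply hcO
    have hx' : algebraMap B C (b₁ * b₂ * b₃) ∉ (x : PrimeSpectrum C).asIdeal := by
      rw [← ha]; exact hx
    intro hcx
    apply hx'
    rw [map_mul, map_mul, ← hd]
    exact Ideal.mul_mem_right _ _ (Ideal.mul_mem_left _ _ (Ideal.mul_mem_left _ _ hcx))
  let m : (h₀ ⁻¹ᵁ V).toScheme ⟶ O.toScheme := Y₀.homOfLE hsub
  have hres : ∀ Q : MorphismProperty Scheme.{u}, Q.RespectsIso → Q.IsStableUnderBaseChange →
      (∀ {A B C : Scheme.{u}} (i : A ⟶ B) (k : B ⟶ C) [IsOpenImmersion i], Q k → Q (i ≫ k)) → Q (q₀ ∣_ O) → Q q := by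
    intro Q _ _ hsrc hQ
    have hr : Set.range l ⊆ Set.range (q₀ ⁻¹ᵁ O).ι := by
      rw [Scheme.Opens.range_ι]
      rintro _ ⟨x, rfl⟩
      show (pullback.snd f h₀) (I₀.subschemeι (l x)) ∈ O
      have e1 : (pullback.snd f h₀) (I₀.subschemeι (l x)) = (h₀ ⁻¹ᵁ V).ι ((pullback.snd f F) (I.subschemeι x)) := by
        have := congrArg (fun φ : I.subscheme ⟶ P₀ => (pullback.snd f h₀) (φ x)) hlι
        refine this.trans ?_
        exact congrArg (fun φ : P ⟶ Y₀ => φ (I.subschemeι x)) hj.w
      rw [e1]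
      exact hsub ((pullback.snd f F) (I.subschemeι x)).2
    have hsq := (isPullback_morphismRestrict q₀ O)
    let u := IsOpenImmersion.lift (q₀ ⁻¹ᵁ O).ι l hr
    have hu : u ≫ (q₀ ⁻¹ᵁ O).ι = l := IsOpenImmersion.lift_fac _ _ _
    haveI : IsOpenImmersion (u ≫ (q₀ ⁻¹ᵁ O).ι) := by rw [hu]; infer_instance
    haveI : IsOpenImmersion u := IsOpenImmersion.of_comp u (q₀ ⁻¹ᵁ O).ι
    have hw : u ≫ (q₀ ∣_ O) = q ≫ m := by
      rw [← cancel_mono O.ι, Category.assoc, Category.assoc, morphismRestrict_ι, reassoc_of% hu, Scheme.homOfLE_ι]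
      show l ≫ I₀.subschemeι ≫ pullback.snd f h₀ = _
      rw [← Category.assoc, hlι, Category.assoc, hj.w, ← Category.assoc]
    have h1 : Q (q ≫ m) := hw ▸ hsrc u _ hQ
    have hsqm : IsPullback (𝟙 I.subscheme) q (q ≫ m) m :=
      IsPullback.of_horiz_isIso_mono ⟨Category.id_comp _⟩
    exact MorphismProperty.of_isPullback hsqm h1
  haveI : Flat q := hres @Flat inferInstance inferInstance (fun i k _ hk => MorphismProperty.comp_mem _ _ _ inferInstance hk) hOflat
  haveI : LocallyOfFinitePresentation q :=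
    hres @LocallyOfFinitePresentation inferInstance inferInstance
      (fun i k _ hk => MorphismProperty.comp_mem _ _ _ inferInstance hk) hOfp
  haveI : QuasiSeparated q := by
    let U₃ : (Spec (CommRingCat.of B)).Opens := PrimeSpectrum.basicOpen b₃
    have hle₃ : τ ⁻¹ᵁ V ≤ U₃ := by
      rw [hVB]; exact PrimeSpectrum.basicOpen_mul_le_right (b₁ * b₂) b₃
    let k : (h₀ ⁻¹ᵁ V).toScheme ⟶ U₃.toScheme :=
      (v₀ ∣_ (τ ⁻¹ᵁ V)) ≫ (Spec (CommRingCat.of B)).homOfLE hle₃
    have hk : k ≫ U₃.ι ≫ τ = F := by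
      show ((v₀ ∣_ (τ ⁻¹ᵁ V)) ≫ (Spec (CommRingCat.of B)).homOfLE hle₃) ≫ U₃.ι ≫ τ = g ≫ V.ι
      rw [Category.assoc, Scheme.homOfLE_ι_assoc, morphismRestrict_ι_assoc, hgι]
      rfl
    have hB3 : IsPullback ((fB ⁻¹ᵁ U₃).ι ≫ pullback.fst f τ) (fB ∣_ U₃) f (U₃.ι ≫ τ) :=
      (isPullback_morphismRestrict fB U₃).flip.paste_horiz (IsPullback.of_hasPullback f τ)
    let l₃ := hB3.lift (pullback.fst f F) (pullback.snd f F ≫ k)
      (by rw [Category.assoc, hk]; exact pullback.condition)
    have hsq₃ : IsPullback l₃ (pullback.snd f F) (fB ∣_ U₃) k := by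
      refine IsPullback.of_right ?_ (hB3.lift_snd _ _ _) hB3
      rw [hB3.lift_fst, hk]
      exact IsPullback.of_hasPullback f F
    haveI : QuasiSeparated (pullback.snd f F) := MorphismProperty.of_isPullback (P := @QuasiSeparated) hsq₃ hqs
    infer_instance
  refine ⟨V, (h₀ ⁻¹ᵁ V).toScheme, g, I.subscheme, I.subschemeι, inferInstance, hVne, inferInstance, inferInstance,
    EtaPtLib.isUnivHomeo_of_isIntegralHom g, inferInstance,
    ⟨Set.range_eq_univ.1 (range_vi_top _)⟩, inferInstance, inferInstance, inferInstance, inferInstance, ?_⟩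
  -- the generic fibre
  let mC := Spec.map (CommRingCat.ofHom (algebraMap C L))
  haveI : IsPreimmersion mC := IsPreimmersion.of_isLocalization (nonZeroDivisors C)
  haveI : Flat mC := by
    rw [HasRingHomProperty.Spec_iff (P := @Flat)]
    exact RingHom.flat_algebraMap_iff.2 (IsLocalization.flat L (nonZeroDivisors C))
  have hmC : mC ≫ h₀ = ext K L ≫ mK ≫ τ := by
    show mC ≫ v₀ ≫ τ = _
    rw [← Category.assoc, ← Category.assoc]
    congr 1
    rw [← Spec.map_comp, ← Spec.map_comp, ← CommRingCat.ofHom_comp, ← CommRingCat.ofHom_comp]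
    rfl
  let PL := pullback fK (ext K L)
  let qL : PL ⟶ Spec (CommRingCat.of L) := pullback.snd _ _
  let aL : PL ⟶ X := pullback.fst _ _ ≫ pullback.fst fB mK ≫ pullback.fst f τ
  have hout : IsPullback aL qL f (mC ≫ h₀) := by
    rw [hmC]
    exact (IsPullback.of_hasPullback fK (ext K L)).paste_horiz
      ((IsPullback.of_hasPullback fB mK).paste_horiz (IsPullback.of_hasPullback f τ))
  let jL : PL ⟶ P₀ := pullback.lift aL (qL ≫ mC) (hout.w.trans (Category.assoc _ _ _).symm)
  have hjL : IsPullback jL qL (pullback.snd f h₀) mC := by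
    refine IsPullback.of_right ?_ (pullback.lift_snd _ _ _) (IsPullback.of_hasPullback f h₀)
    rwa [pullback.lift_fst]
  haveI : IsPreimmersion jL := MorphismProperty.of_isPullback (P := @IsPreimmersion) hjL.flip inferInstance
  haveI : Flat jL := MorphismProperty.of_isPullback (P := @Flat) hjL.flip inferInstance
  haveI : IsReduced (pullback I₀.subschemeι jL) := isReduced_of_flat_preimmersion (pullback.fst I₀.subschemeι jL)
  have hred : GeometricallyReduced (pullback.snd I₀.subschemeι jL ≫ qL) := by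
    have hbig : PL.nilradical = Scheme.IdealSheafData.vanishingIdeal ⊤ := Scheme.IdealSheafData.vanishingIdeal_top.symm
    haveI : IsReduced PL.nilradical.subscheme := by rw [hbig]; exact DvrDom.isReduced_vanishingIdeal_subscheme _
    obtain ⟨e, he⟩ := exists_iso_of_immersion (pullback.snd I₀.subschemeι jL) PL.nilradical.subschemeι (by
      rw [Scheme.Pullback.range_snd, range_vi_top, Set.preimage_univ]
      rw [hbig, range_vi_top])
    rw [← he, Category.assoc]
    exact (MorphismProperty.cancel_left_of_respectsIso @GeometricallyReduced e.hom _).2 hL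
  have hsqL : IsPullback (pullback.fst I₀.subschemeι jL) (pullback.snd I₀.subschemeι jL ≫ qL) q₀ mC :=
    (IsPullback.of_hasPullback _ _).paste_vert hjL
  have hfib : GeometricallyReduced (q₀.fiberToSpecResidueField (⊥ : PrimeSpectrum C)) := by
    have h := (GeomRedSpread.geometricallyReduced_iff_forall_fiber _).1 hred (default : PrimeSpectrum L)
    have h' := (GeomRedSpread.fiber_baseChange_iff hsqL (default : PrimeSpectrum L)).1 h
    have hpt : mC (default : PrimeSpectrum L) = (⊥ : PrimeSpectrum C) := by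
      apply PrimeSpectrum.ext
      show Ideal.comap (algebraMap C L) (default : PrimeSpectrum L).asIdeal = ⊥
      rw [Ideal.eq_bot_of_prime (default : PrimeSpectrum L).asIdeal, Ideal.comap_bot_of_injective]
      exact IsFractionRing.injective C L
    rwa [hpt] at h'
  have hgp : (h₀ ⁻¹ᵁ V).ι (genericPoint (h₀ ⁻¹ᵁ V).toScheme) = (⊥ : PrimeSpectrum C) := by
    rw [genericPoint_eq_of_isOpenImmersion]
    haveI : IsIntegral Y₀ := inferInstanceAs (IsIntegral (Spec (CommRingCat.of C)))
    exact genericPoint_eq_bot_of_affine (CommRingCat.of C)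
  have hsqq : IsPullback l q q₀ (h₀ ⁻¹ᵁ V).ι := hlsq.paste_vert hj
  exact (GeomRedSpread.fiber_baseChange_iff hsqq _).2 (hgp ▸ hfib)

end Groth.Agent.SmoothStrat
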