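import Groth.Agent.SmoothStrat.Global

/-! Smooth stratifications near a generic point of a reduced scheme. -/

set_option autoImplicit false
set_option linter.style.haveILetI false
set_option backward.isDefEq.respectTransparency false
universe u
open CategoryTheory CategoryTheory.Limits AlgebraicGeometry TopologicalSpace

noncomputable section

namespace Groth.Agent.SmoothStrat

variable {X S : Scheme.{u}}

theorem exists_open_le_support [IsReduced S] {U : S.Opens} (hU : IsAffineOpen U) (η : S) (hηU : η ∈ U)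
    (hmax : ∀ q : S, q ⤳ η → q = η) (I : S.IdealSheafData) (hI : (I.ideal ⟨U, hU⟩).FG) (hη : η ∈ I.support) :
    ∃ G : S.Opens, η ∈ G ∧ (G : Set S) ⊆ I.support := by
  let A := Γ(S, U)
  let p : PrimeSpectrum A := hU.primeIdealOf ⟨η, hηU⟩
  have hp : p.asIdeal ∈ minimalPrimes A := by
    refine ⟨⟨p.isPrime, bot_le⟩, fun q hq hqp => ?_⟩
    let q' : PrimeSpectrum A := ⟨q, hq.1⟩
    have hsp : q' ⤳ p := (PrimeSpectrum.le_iff_specializes q' p).1 hqp
    have := (Specializes.map hsp hU.fromSpec.continuous)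
    have hpe : hU.fromSpec p = η := hU.fromSpec_primeIdealOf ⟨η, hηU⟩
    rw [hpe] at this
    have he : q' = p := hU.fromSpec.isOpenEmbedding.injective ((hmax _ this).trans hpe.symm)
    exact le_of_eq (congrArg PrimeSpectrum.asIdeal he).symm
  have hmem : ∀ a : A, η ∈ S.basicOpen a ↔ a ∉ p.asIdeal := fun a => by
    have h := congrArg (fun O : (Spec Γ(S, U)).Opens => p ∈ O) (hU.fromSpec_preimage_basicOpen a)
    have hpe : hU.fromSpec p = η := hU.fromSpec_primeIdealOf ⟨η, hηU⟩
    simp only [eq_iff_iff] at h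
    change hU.fromSpec p ∈ S.basicOpen a ↔ _ at h
    rw [hpe] at h
    exact h
  rw [Scheme.IdealSheafData.mem_support_iff_of_mem (U := ⟨U, hU⟩) hηU, Scheme.mem_zeroLocus_iff] at hη
  have hle : I.ideal ⟨U, hU⟩ ≤ p.asIdeal := fun a ha => not_not.1 fun h => hη a ha ((hmem a).2 h)
  obtain ⟨s, hs, hann⟩ := exists_annihilator hp hI hle
  refine ⟨S.basicOpen s, (hmem s).2 hs, fun x hx => ?_⟩
  rw [SetLike.mem_coe, Scheme.IdealSheafData.mem_support_iff_of_mem (U := ⟨U, hU⟩) (S.basicOpen_le s hx), Scheme.mem_zeroLocus_iff]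
  intro a ha hxa
  have : x ∈ S.basicOpen (s * a) := by rw [Scheme.basicOpen_mul]; exact ⟨hx, hxa⟩
  rw [hann a ha, Scheme.basicOpen_zero] at this
  exact this

set_option maxHeartbeats 1000000 in
theorem exists_near_generic (f : X ⟶ S) [LocallyOfFinitePresentation f] [QuasiCompact f] [QuasiSeparated f]
    [IsReduced S] (η : S) (hmax : ∀ q : S, q ⤳ η → q = η) :
    ∃ (U : S.Opens) (V : Scheme.{u}) (v : V ⟶ (U : Scheme.{u})), η ∈ U ∧ AlgebraicGeometry.Surjective v ∧
      UniversallyInjective v ∧ Mor2.IsFinLocFree v ∧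
      ∃ (t : ℕ) (J : Fin (t + 1) → (pullback f (v ≫ U.ι)).IdealSheafData), Monotone J ∧ J (Fin.last t) = ⊤ ∧
        ((J 0).support : Set ↑(pullback f (v ≫ U.ι))) = Set.univ ∧
        (∀ i, ∀ O : (pullback f (v ≫ U.ι)).affineOpens, ((J i).ideal O).FG) ∧
        ∀ i : Fin t, Smooth (((J i.castSucc).subschemeι ⁻¹ᵁ (J i.succ).support.compl).ι ≫
          (J i.castSucc).subschemeι ≫ pullback.snd f (v ≫ U.ι)) := by
  obtain ⟨U₀, hU₀, hηU₀, -⟩ := exists_isAffineOpen_mem_and_subset (x := η) (U := ⊤) trivial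
  haveI : IsAffine U₀.toScheme := hU₀
  haveI : IsReduced U₀.toScheme := isReduced_of_isOpenImmersion U₀.ι
  let f' := f ∣_ U₀
  haveI : LocallyOfFinitePresentation f' :=
    MorphismProperty.of_isPullback (P := @LocallyOfFinitePresentation) (isPullback_morphismRestrict f U₀).flip ‹_›
  haveI : QuasiCompact f' :=
    MorphismProperty.of_isPullback (P := @QuasiCompact) (isPullback_morphismRestrict f U₀).flip ‹_›
  haveI : QuasiSeparated f' :=
    MorphismProperty.of_isPullback (P := @QuasiSeparated) (isPullback_morphismRestrict f U₀).flip ‹_›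
  obtain ⟨t, I, -, hlast, h0, hfg, hI⟩ := exists_global f'
  let η₀ : U₀.toScheme := ⟨η, hηU₀⟩
  obtain ⟨i, hi, hi'⟩ : ∃ i : Fin t, η₀ ∈ (I i.castSucc).support ∧ η₀ ∉ (I i.succ).support := by
    by_contra h
    push Not at h
    have hall : ∀ j, η₀ ∈ (I j).support := fun j => by
      induction j using Fin.induction with
      | zero => rw [← SetLike.mem_coe, h0]; trivial
      | succ j ih => exact h j ih
    have := hall (Fin.last t)
    rw [hlast, Scheme.IdealSheafData.support_top] at this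
    exact this
  obtain ⟨G, hηG, hGsub⟩ := exists_open_le_support (isAffineOpen_top U₀.toScheme) η₀ trivial
    (fun q hq => U₀.ι.isOpenEmbedding.injective (hmax _ (hq.map U₀.ι.continuous)))
    (I i.castSucc) (hfg _ _) hi
  let G' := G ⊓ (I i.succ).support.compl
  let ι := (I i.castSucc).subschemeι
  haveI := isIso_restrict_closedImmersion ι G' (fun x hx => by
    rw [Scheme.IdealSheafData.range_subschemeι]; exact hGsub hx.1)
  let Os := ι ⁻¹ᵁ (I i.succ).support.compl
  let j : G'.toScheme ⟶ stratum (I i.castSucc) (I i.succ) :=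
    inv (ι ∣_ G') ≫ (I i.castSucc).subscheme.homOfLE (ι.preimage_mono inf_le_right : ι ⁻¹ᵁ G' ≤ Os)
  have hj : j ≫ stratumι (I i.castSucc) (I i.succ) = G'.ι := by
    show (inv (ι ∣_ G') ≫ _) ≫ Os.ι ≫ ι = G'.ι
    rw [Category.assoc, Scheme.homOfLE_ι_assoc, ← morphismRestrict_ι, IsIso.inv_hom_id_assoc]
  obtain ⟨T, v, hsurj, huniv, ⟨hfin, hflat, hfp⟩, t', J, hJ, hJlast, hJ0, hJfg, hsm⟩ := hI i
  let U : S.Opens := U₀.ι ''ᵁ G'
  let θ : G'.toScheme ≅ U.toScheme := U₀.ι.isoImage G'
  haveI := hfin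
  haveI := hflat
  haveI := hfp
  let v' := pullback.snd v j ≫ θ.hom
  let m := pullback.fst v j
  refine ⟨U, pullback v j, v', ⟨η₀, ⟨hηG, hi'⟩, rfl⟩, ?_, ?_, ⟨inferInstance, inferInstance, inferInstance⟩, ?_⟩
  · haveI : AlgebraicGeometry.Surjective (pullback.snd v j) := MorphismProperty.pullback_snd _ _ hsurj
    infer_instance
  · exact (MorphismProperty.cancel_right_of_respectsIso @UniversallyInjective _ θ.hom).2
      (MorphismProperty.pullback_snd _ _ huniv)
  let F₀ := v ≫ stratumι (I i.castSucc) (I i.succ)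
  let F := v' ≫ U.ι
  have hm : F = m ≫ F₀ ≫ U₀.ι := by
    show (pullback.snd v j ≫ θ.hom) ≫ U.ι = _
    rw [Category.assoc, Scheme.Hom.isoImage_hom_ι, ← hj]
    simp only [F₀, m, Category.assoc]
    rw [pullback.condition_assoc]
  have hbig : IsPullback (pullback.fst f' F₀ ≫ (f ⁻¹ᵁ U₀).ι) (pullback.snd f' F₀) f (F₀ ≫ U₀.ι) :=
    (IsPullback.of_hasPullback f' F₀).paste_horiz (isPullback_morphismRestrict f U₀).flip
  let g := hbig.lift (pullback.fst f F) (pullback.snd f F ≫ m)
    (by rw [pullback.condition, Category.assoc, hm])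
  have hsq : IsPullback g (pullback.snd f F) (pullback.snd f' F₀) m := by
    refine IsPullback.of_right ?_ (hbig.lift_snd _ _ _) hbig
    rw [hbig.lift_fst, ← hm]
    exact IsPullback.of_hasPullback f F
  refine ⟨t', fun j => (J j).comap g, (Scheme.IdealSheafData.comap_mono g).comp hJ, ?_, ?_, fun j O => ?_,
    fun j => smooth_stratum_comap hsq _ _ (hsm j)⟩
  · show (J (Fin.last t')).comap g = ⊤
    simp [hJlast]
  · rw [Scheme.IdealSheafData.support_comap]
    show g ⁻¹' ((J 0).support : Set _) = _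
    rw [hJ0, Set.preimage_univ]
  · exact AbsApprox.fg_comap g _ (hJfg _) O

end Groth.Agent.SmoothStrat
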