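import Groth.Agent.SmoothStrat.CompSemi
import Groth.Agent.GeomPts.Realize
import Groth.Agent.RedSepLib.Basic
import Groth.Agent.S3411
import Groth.Agent.S1454

/-! Disjointness of components over a geometrically unibranch base with constant geometric point count. -/

set_option autoImplicit false
set_option linter.style.haveILetI false
set_option backward.isDefEq.respectTransparency false
universe u
open CategoryTheory CategoryTheory.Limits AlgebraicGeometry TopologicalSpace IsLocalRing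

noncomputable section

namespace Groth.Agent.SmoothStrat

variable {X Y : Scheme.{u}}

/-- points without proper generisation -/
def IsMax (x : X) : Prop := ∀ w, w ⤳ x → w = x

theorem exists_isMax_specializes (x : X) : ∃ w, IsMax w ∧ w ⤳ x := by
  obtain ⟨Z, hZ, hZx⟩ := exists_mem_irreducibleComponents_subset_of_isIrreducible _ (isIrreducible_singleton (x := x))
  have hg := hZ.1.isGenericPoint_genericPoint (isClosed_of_mem_irreducibleComponents Z hZ)
  exact ⟨_, mem_genericPoints_iff.1 (show closure {hZ.1.genericPoint} ∈ irreducibleComponents ↑X from hg.def.symm ▸ hZ),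
    hg.specializes (hZx rfl)⟩

theorem exists_isMax_of_mem_closure [IsLocallyNoetherian X] {O : Set X} (hO : IsOpen O) {x : X} (hx : x ∈ closure O) :
    ∃ w ∈ O, IsMax w ∧ w ⤳ x := by
  obtain ⟨V, hV, hxV, -⟩ := exists_isAffineOpen_mem_and_subset (x := x) (U := ⊤) trivial
  haveI : IsNoetherianRing Γ(X, V) := IsLocallyNoetherian.component_noetherian ⟨V, hV⟩
  haveI : NoetherianSpace ↑(V : Set X) := noetherianSpace_of_isAffineOpen V hV
  have hxc : x ∈ closure ((V : Set X) ∩ O) := V.2.inter_closure ⟨hxV, hx⟩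
  let O' : X.Opens := ⟨(V : Set X) ∩ O, V.2.inter hO⟩
  haveI : NoetherianSpace ↥O'.toScheme :=
    ((Topology.IsEmbedding.inclusion (Set.inter_subset_left : (V : Set X) ∩ O ⊆ V)).isInducing).noetherianSpace
  have hcov : ((V : Set X) ∩ O) ⊆ ⋃ g ∈ genericPoints ↥O'.toScheme, closure {O'.ι g} := fun z hz => by
    obtain ⟨w, hw, hwz⟩ := exists_isMax_specializes (X := O'.toScheme) ⟨z, hz⟩
    exact Set.mem_biUnion (mem_genericPoints_iff.2 hw) (specializes_iff_mem_closure.1 (hwz.map O'.ι.continuous))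
  have hfin : (genericPoints ↥O'.toScheme).Finite := genericPoints.finite NoetherianSpace.finite_irreducibleComponents
  obtain ⟨g, hg, hgx⟩ := Set.mem_iUnion₂.1
    ((hfin.isClosed_biUnion fun g _ => isClosed_closure).closure_subset_iff.2 hcov hxc)
  refine ⟨O'.ι g, g.2.2, fun w hw => ?_, specializes_iff_mem_closure.2 hgx⟩
  have hwO : w ∈ O' := hw.mem_open O'.2 g.2
  exact congrArg O'.ι (mem_genericPoints_iff.1 hg ⟨w, hwO⟩ ((subtype_specializes_iff _ _).2 hw))

theorem isMax_map [IsLocallyNoetherian X] (f : X ⟶ Y) [UniversallyOpen f] {x : X} (hx : IsMax x) : IsMax (f x) := by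
  intro w hw
  let U : Set X := (closure ((closure {x})ᶜ))ᶜ
  have hxU : x ∈ U := fun h => by
    obtain ⟨v, hv, -, hvx⟩ := exists_isMax_of_mem_closure isClosed_closure.isOpen_compl h
    exact hv (hx v hvx ▸ subset_closure rfl)
  obtain ⟨z, hz, rfl⟩ := hw.mem_open (f.isOpenMap U isClosed_closure.isOpen_compl) ⟨x, hxU, rfl⟩
  have hzx : z ∈ closure {x} := by
    by_contra h
    exact hz (subset_closure h)
  exact (((specializes_iff_mem_closure.2 hzx).map f.continuous).antisymm hw).eq.symm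

theorem eq_of_specializes_of_isUnibranch {y y₁ y₂ : Y} (hy : CAlg2.IsGeomUnibranch (Y.presheaf.stalk y))
    (h₁ : IsMax y₁) (h₂ : IsMax y₂) (hs₁ : y₁ ⤳ y) (hs₂ : y₂ ⤳ y) : y₁ = y₂ := by
  haveI : IsDomain (CAlg2.red (Y.presheaf.stalk y)) := hy.1.1
  haveI hp : (nilradical (Y.presheaf.stalk y)).IsPrime := (Ideal.Quotient.isDomain_iff_prime _).1 hy.1.1
  let p₀ : Spec (Y.presheaf.stalk y) := ⟨nilradical (Y.presheaf.stalk y), hp⟩
  suffices h : ∀ z, IsMax z → z ⤳ y → z = Y.fromSpecStalk y p₀ from (h y₁ h₁ hs₁).trans (h y₂ h₂ hs₂).symm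
  intro z hz hzy
  obtain ⟨q, rfl⟩ : z ∈ Set.range (Y.fromSpecStalk y) := by rw [Scheme.range_fromSpecStalk]; exact hzy
  exact (hz _ (((PrimeSpectrum.le_iff_specializes p₀ q).1 (nilradical_le_prime q.asIdeal)).map (Y.fromSpecStalk y).continuous)).symm

theorem isUnivOpenAt (f : X ⟶ Y) [UniversallyOpen f] (x : X) : EGA43.IsUnivOpenAt f x := by
  intro Y' g x' _ U hU
  obtain ⟨O, hOU, hO, hxO⟩ := mem_nhds_iff.1 hU
  exact mem_nhds_iff.2 ⟨_, Set.image_mono hOU,
    (pullback.snd f g).isOpenMap O hO, ⟨x', hxO, rfl⟩⟩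

/-- Geometric points with image in a closed set. -/
theorem encard_fib_subscheme (f : X ⟶ Y) (C : Closeds X) {Ω : Type u} [Field Ω]
    (v : Spec (CommRingCat.of Ω) ⟶ Y) :
    ENat.card (Weighting.Fib ((Scheme.IdealSheafData.vanishingIdeal C).subschemeι ≫ f) v) =
      {l | l ∈ Weighting.Fib f v ∧ Weighting.pt l ∈ (C : Set X)}.encard := by
  let ι := (Scheme.IdealSheafData.vanishingIdeal C).subschemeι
  have hr : Set.range ι = (C : Set X) := by rw [Scheme.IdealSheafData.range_subschemeι, support_vi]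
  have he : (fun l => l ≫ ι) '' Weighting.Fib (ι ≫ f) v = {l | l ∈ Weighting.Fib f v ∧ Weighting.pt l ∈ (C : Set X)} := by
    ext l
    constructor
    · rintro ⟨m, hm, rfl⟩
      exact ⟨(Category.assoc _ _ _).trans hm, hr.le ⟨Weighting.pt m, rfl⟩⟩
    · rintro ⟨hl, hlC⟩
      obtain ⟨m, hm⟩ := RedSepLib.exists_lift_of_isReduced l ι (by
        rintro _ ⟨s, rfl⟩
        rw [hr, Weighting.apply_eq_pt]
        exact hlC)
      exact ⟨m, (by show m ≫ ι ≫ f = v; rw [← Category.assoc, hm]; exact hl), hm⟩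
  rw [← he, Set.InjOn.encard_image (fun a _ b _ h => (cancel_mono ι).1 h)]
  rfl

theorem not_two_components [IsLocallyNoetherian Y] [IsLocallyNoetherian X]
    (hY : ∀ y : Y, CAlg2.IsGeomUnibranch (Y.presheaf.stalk y)) (f : X ⟶ Y)
    [IsSeparated f] [LocallyQuasiFinite f] [LocallyOfFiniteType f] [QuasiCompact f] [UniversallyOpen f]
    (hn : IsLocallyConstant (fun z : Y => MoreMor.nGeomConnComp f z))
    {x z₁ z₂ : X} (h₁ : IsMax z₁) (h₂ : IsMax z₂) (hs₁ : z₁ ⤳ x) (hs₂ : z₂ ⤳ x) : z₁ = z₂ := by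
  classical
  by_contra hne
  let C₁ : Closeds X := ⟨closure {z₁}, isClosed_closure⟩
  let C₂ : Closeds X := ⟨closure ((closure {z₁})ᶜ), isClosed_closure⟩
  let ι₁ := (Scheme.IdealSheafData.vanishingIdeal C₁).subschemeι
  let ι₂ := (Scheme.IdealSheafData.vanishingIdeal C₂).subschemeι
  have hr : ∀ C : Closeds X, Set.range (Scheme.IdealSheafData.vanishingIdeal C).subschemeι = (C : Set X) := fun C => by
    rw [Scheme.IdealSheafData.range_subschemeι, support_vi]
  have huo : ∀ C : Closeds X, (∀ z ∈ (C : Set X), ∃ w ∈ (C : Set X), IsMax w ∧ w ⤳ z) →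
      UniversallyOpen ((Scheme.IdealSheafData.vanishingIdeal C).subschemeι ≫ f) := by
    intro C hC
    let ι := (Scheme.IdealSheafData.vanishingIdeal C).subschemeι
    refine Groth.Agent.S1454.result (ι ≫ f) hY fun Z hZ g hg => ?_
    have hgmax : IsMax g := mem_genericPoints_iff.1 (show closure {g} ∈ irreducibleComponents _ from hg.def.symm ▸ hZ)
    obtain ⟨w, hwC, hw, hwg⟩ := hC (ι g) ((hr C).le ⟨g, rfl⟩)
    obtain ⟨w', rfl⟩ := (hr C).ge hwC
    obtain rfl := hgmax w' (ι.isEmbedding.isInducing.specializes_iff.1 hwg)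
    exact ⟨closure {f (ι w')}, mem_genericPoints_iff.2 (isMax_map f hw), rfl⟩
  haveI := huo C₁ fun z hz => ⟨z₁, subset_closure rfl, h₁, specializes_iff_mem_closure.2 hz⟩
  haveI := huo C₂ fun z hz => by
    obtain ⟨w, hw, hwm, hwz⟩ := exists_isMax_of_mem_closure isClosed_closure.isOpen_compl hz
    exact ⟨w, subset_closure hw, hwm, hwz⟩
  let y := f x
  let η := f z₁
  have hηy : η ⤳ y := hs₁.map f.continuous
  have hle : ∀ C : Closeds X, UniversallyOpen ((Scheme.IdealSheafData.vanishingIdeal C).subschemeι ≫ f) →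
      MoreMor.nGeomConnComp ((Scheme.IdealSheafData.vanishingIdeal C).subschemeι ≫ f) y ≤
        MoreMor.nGeomConnComp ((Scheme.IdealSheafData.vanishingIdeal C).subschemeι ≫ f) η := fun C hC => by
    haveI := hC
    obtain ⟨V, hV, h⟩ := Groth.Agent.S3411.result ((Scheme.IdealSheafData.vanishingIdeal C).subschemeι ≫ f) y
      fun x' _ => isUnivOpenAt _ x'
    obtain ⟨O, hOV, hO, hyO⟩ := mem_nhds_iff.1 hV
    exact h η (hOV (hηy.mem_open hO hyO))
  have hval : ∀ (z : Y) (C : Closeds X) (Ω : Type u) [Field Ω] [IsAlgClosed Ω] (v : Spec (CommRingCat.of Ω) ⟶ Y),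
      Weighting.pt v = z → MoreMor.nGeomConnComp ((Scheme.IdealSheafData.vanishingIdeal C).subschemeι ≫ f) z =
        {l | l ∈ Weighting.Fib f v ∧ Weighting.pt l ∈ (C : Set X)}.encard := fun z C Ω _ _ v hv => by
    rw [← hv, GeomPts.nGeomConnComp_eq_card_fib, encard_fib_subscheme]
  have hcov : ∀ w : X, w ∈ (C₁ : Set X) ∨ w ∈ (C₂ : Set X) := fun w => by
    by_cases h : w ∈ closure {z₁}
    · exact Or.inl h
    · exact Or.inr (subset_closure h)
  let vy : Spec (CommRingCat.of (AlgebraicClosure (Y.residueField y))) ⟶ Y :=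
    Spec.map (CommRingCat.ofHom (algebraMap (Y.residueField y) (AlgebraicClosure (Y.residueField y)))) ≫ Y.fromSpecResidueField y
  let vη : Spec (CommRingCat.of (AlgebraicClosure (Y.residueField η))) ⟶ Y :=
    Spec.map (CommRingCat.ofHom (algebraMap (Y.residueField η) (AlgebraicClosure (Y.residueField η)))) ≫ Y.fromSpecResidueField η
  have hvy : Weighting.pt vy = y := (Scheme.Hom.comp_apply _ _ _).trans (Y.fromSpecResidueField_apply y _)
  have hvη : Weighting.pt vη = η := (Scheme.Hom.comp_apply _ _ _).trans (Y.fromSpecResidueField_apply η _)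
  have hsplit : ∀ (Ω : Type u) [Field Ω] [IsAlgClosed Ω] (v : Spec (CommRingCat.of Ω) ⟶ Y),
      {l | l ∈ Weighting.Fib f v ∧ Weighting.pt l ∈ (C₁ : Set X)}.encard +
        {l | l ∈ Weighting.Fib f v ∧ Weighting.pt l ∈ (C₂ : Set X)}.encard =
      MoreMor.nGeomConnComp f (Weighting.pt v) +
        {l | l ∈ Weighting.Fib f v ∧ Weighting.pt l ∈ (C₁ : Set X) ∧ Weighting.pt l ∈ (C₂ : Set X)}.encard := by
    intro Ω _ _ v
    have hu : {l | l ∈ Weighting.Fib f v ∧ Weighting.pt l ∈ (C₁ : Set X)} ∪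
        {l | l ∈ Weighting.Fib f v ∧ Weighting.pt l ∈ (C₂ : Set X)} = Weighting.Fib f v := by
      ext l
      exact ⟨fun h => h.elim (·.1) (·.1), fun h => (hcov (Weighting.pt l)).imp (⟨h, ·⟩) (⟨h, ·⟩)⟩
    have hi : {l | l ∈ Weighting.Fib f v ∧ Weighting.pt l ∈ (C₁ : Set X)} ∩
        {l | l ∈ Weighting.Fib f v ∧ Weighting.pt l ∈ (C₂ : Set X)} =
        {l | l ∈ Weighting.Fib f v ∧ Weighting.pt l ∈ (C₁ : Set X) ∧ Weighting.pt l ∈ (C₂ : Set X)} := by
      ext l
      exact ⟨fun h => ⟨h.1.1, h.1.2, h.2.2⟩, fun h => ⟨⟨h.1, h.2.1⟩, h.1, h.2.2⟩⟩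
    rw [← Set.encard_union_add_encard_inter, hu, hi, GeomPts.nGeomConnComp_eq_card_fib]
    rfl
  -- no common geometric point over the generic point
  have hη0 : {l | l ∈ Weighting.Fib f vη ∧ Weighting.pt l ∈ (C₁ : Set X) ∧ Weighting.pt l ∈ (C₂ : Set X)} = ∅ := by
    refine Set.eq_empty_iff_forall_notMem.2 fun l ⟨hl, hl1, hl2⟩ => ?_
    have hfl : f (Weighting.pt l) = η := by rw [← Weighting.pt_comp, show l ≫ f = vη from hl, hvη]
    have hlmax : ∀ w, w ⤳ Weighting.pt l → w = Weighting.pt l := fun w hw => by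
      have hwη : f w = η := isMax_map f h₁ (f w) (show f w ⤳ η from hfl ▸ hw.map f.continuous)
      haveI : DiscreteTopology ↥(f ⁻¹' {η}) := isDiscrete_iff_discreteTopology.1 (f.isDiscrete_preimage_singleton η)
      exact congrArg Subtype.val (((subtype_specializes_iff (⟨w, hwη⟩ : ↥(f ⁻¹' {η})) ⟨Weighting.pt l, hfl⟩).2 hw).eq)
    have hz : Weighting.pt l = z₁ := (hlmax z₁ (specializes_iff_mem_closure.2 hl1)).symm
    obtain ⟨w, hw, -, hwl⟩ := exists_isMax_of_mem_closure isClosed_closure.isOpen_compl hl2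
    exact hw ((hlmax w hwl).trans hz ▸ subset_closure rfl)
  -- a common one over the special point
  have hy1 : 1 ≤ {l | l ∈ Weighting.Fib f vy ∧ Weighting.pt l ∈ (C₁ : Set X) ∧ Weighting.pt l ∈ (C₂ : Set X)}.encard := by
    obtain ⟨l, hl, hlx⟩ := Weighting.exists_mem_fib_at f vy x hvy.symm
    refine Set.one_le_encard_iff_nonempty.2 ⟨l, hl, hlx ▸ specializes_iff_mem_closure.1 hs₁, hlx ▸ ?_⟩
    have hz₂ : z₂ ∈ (closure {z₁})ᶜ := fun h => hne (h₂ z₁ (specializes_iff_mem_closure.2 h))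
    exact closure_minimal (Set.singleton_subset_iff.2 (subset_closure hz₂)) isClosed_closure (specializes_iff_mem_closure.1 hs₂)
  have hconst : MoreMor.nGeomConnComp f η = MoreMor.nGeomConnComp f y :=
    hηy.mem_open (hn.isOpen_fiber (MoreMor.nGeomConnComp f y)) rfl
  have hfin : MoreMor.nGeomConnComp f y ≠ ⊤ := by
    rw [← hvy, GeomPts.nGeomConnComp_eq_card_fib]
    exact Set.encard_ne_top_iff.2 (Weighting.finite_fib f vy (f.finite_preimage_singleton _))
  have hy := hsplit _ vy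
  have hη := hsplit _ vη
  rw [← hval _ C₁ _ vy hvy, ← hval _ C₂ _ vy hvy, hvy] at hy
  rw [← hval _ C₁ _ vη hvη, ← hval _ C₂ _ vη hvη, hvη, hη0, Set.encard_empty, add_zero, hconst] at hη
  have := (add_le_add (hle C₁ inferInstance) (hle C₂ inferInstance)).trans hη.le
  rw [hy] at this
  refine absurd ((add_le_add le_rfl hy1).trans this) ?_
  exact not_le.2 (ENat.lt_add_one_iff hfin |>.2 le_rfl)

end Groth.Agent.SmoothStrat
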