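import Groth.Agent.SmoothStrat.GeomIntField
import Groth.Agent.SmoothStrat.GenIrred
import Groth.Agent.SmoothStrat.Domain
import Groth.Agent.S0414
import Groth.Agent.GeomRedSpread.Constructible
import Groth.Agent.GeomFib.Consequences
import Groth.Agent.ConsMod.Generic
import Groth.Agent.FibreApprox.Basic
import Groth.Agent.S1462
import Groth.Agent.ConsEngine.Core

/-! Components flat with geometrically integral fibres after a finite flat base change. -/

set_option autoImplicit false
set_option linter.style.haveILetI false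
set_option backward.isDefEq.respectTransparency false
universe u
open CategoryTheory CategoryTheory.Limits AlgebraicGeometry TopologicalSpace

noncomputable section

namespace Groth.Agent.SmoothStrat

/-- Flatness of a finite algebra over a nonempty basic open. -/
theorem exists_flat_restrict (B : Type u) [CommRing B] [IsDomain B] [IsNoetherianRing B] (C : Type u) [CommRing C]
    [Algebra B C] [Module.Finite B C] :
    ∃ r : B, r ≠ 0 ∧ Flat (Spec.map (CommRingCat.ofHom (algebraMap B C)) ∣_ PrimeSpectrum.basicOpen r) := by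
  haveI : IsFinite (Spec.map (CommRingCat.ofHom (algebraMap B C))) :=
    (IsFinite.SpecMap_iff _).2 (RingHom.finite_algebraMap.2 inferInstance)
  obtain ⟨O, hOd, hOflat, -⟩ := S0414.result (Spec.map (CommRingCat.ofHom (algebraMap B C)))
  obtain ⟨z, hz⟩ := hOd.nonempty
  obtain ⟨_, ⟨r, rfl⟩, hzr, hrO⟩ :=
    PrimeSpectrum.isTopologicalBasis_basic_opens.exists_subset_of_mem_open hz O.2
  exact ⟨r, fun h => by simp [h] at hzr,
    MorphismProperty.of_isPullback (P := @Flat) (isPullback_restrict_le _ hrO).flip hOflat⟩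

theorem isLocallyConstructible_geomIntegral {X Y : Scheme.{u}} (f : X ⟶ Y) [LocallyOfFinitePresentation f]
    [QuasiCompact f] [QuasiSeparated f] :
    Topology.IsLocallyConstructible {y : Y | GeometricallyIntegral (f.fiberToSpecResidueField y)} := by
  have h1 := GeomRedSpread.isLocallyConstructible_of_qs f
  have h2 := GeomFib.isLocallyConstructible_nGeom f (fun f y => MoreMor.nGeomIrredComp f y)
    (fun hc y' => (GeomFib.nGeom_baseChange hc y').1)
    (fun f _ _ y => by
      obtain ⟨O, a1, a2⟩ := GeomFib.exists_open_nGeom f y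
      exact ⟨O, a1, fun y' hy' hs => (a2 y' hy' hs).1⟩) 1
  convert h1.inter h2 using 1
  ext y
  show GeometricallyIntegral _ ↔ GeometricallyReduced _ ∧ MoreMor.nGeomIrredComp f y = 1
  rw [← GeomFib.geometricallyIrreducible_fiber_iff]
  refine ⟨fun h => ⟨inferInstance, inferInstance⟩, fun ⟨h, h'⟩ => ?_⟩
  exact GeometricallyIntegral.of_geometricallyReduced_of_geometricallyIrreducible _

/-- Geometric integrality of the generic fibre spreads to a basic open. -/
theorem exists_geomIntegral_open (C : Type u) [CommRing C] [IsDomain C] [IsNoetherianRing C] {Z : Scheme.{u}}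
    (q : Z ⟶ Spec (CommRingCat.of C)) [LocallyOfFiniteType q] [QuasiCompact q]
    (h : GeometricallyIntegral (q.fiberToSpecResidueField (⊥ : PrimeSpectrum C))) :
    ∃ c : C, c ≠ 0 ∧ GeometricallyIntegral (q ∣_ PrimeSpectrum.basicOpen c) ∧
      Flat (q ∣_ PrimeSpectrum.basicOpen c) := by
  haveI : IsLocallyNoetherian Z := LocallyOfFiniteType.isLocallyNoetherian q
  haveI : LocallyOfFinitePresentation q := ConsEngine.lfp_of_lft q
  let η : Spec (CommRingCat.of C) := (⊥ : PrimeSpectrum C)
  have hgen : ∀ z, η ⤳ z := fun z => (PrimeSpectrum.le_iff_specializes (⊥ : PrimeSpectrum C) z).1 bot_le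
  rcases ConsMod.interior_or_of_isLocallyConstructible hgen (isLocallyConstructible_geomIntegral q) with hi | hi
  · obtain ⟨_, ⟨c, rfl⟩, hc, hcE⟩ :=
      PrimeSpectrum.isTopologicalBasis_basic_opens.exists_subset_of_mem_open hi isOpen_interior
    obtain ⟨O, hOd, hOflat, -⟩ := S0414.result q
    obtain ⟨z, hz⟩ := hOd.nonempty
    obtain ⟨_, ⟨c', rfl⟩, hc', hcO⟩ :=
      PrimeSpectrum.isTopologicalBasis_basic_opens.exists_subset_of_mem_open hz O.2
    refine ⟨c * c', mul_ne_zero (fun h => by simp [h] at hc) (fun h => by simp [h] at hc'), ?_, ?_⟩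
    · let U : (Spec (CommRingCat.of C)).Opens := PrimeSpectrum.basicOpen (c * c')
      show GeometricallyIntegral (q ∣_ U)
      rw [GeometricallyIntegral.iff_geometricallyIntegral_fiber]
      intro s
      have hs : GeometricallyIntegral (q.fiberToSpecResidueField (U.ι s)) :=
        interior_subset (s := {y : Spec (CommRingCat.of C) | GeometricallyIntegral (q.fiberToSpecResidueField y)})
          (hcE (PrimeSpectrum.basicOpen_mul_le_left c c' s.2))
      exact MorphismProperty.of_isPullback (P := @GeometricallyIntegral)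
        (ConsEngine.isPullback_fiberBC (isPullback_morphismRestrict q U).flip s) hs
    · exact MorphismProperty.of_isPullback (P := @Flat)
        (isPullback_restrict_le q ((PrimeSpectrum.basicOpen_mul_le_right c c').trans hcO)).flip hOflat
  · exact absurd h (interior_subset hi)

set_option maxHeartbeats 2000000 in
theorem exists_geomIntegral_model (B : Type u) [CommRing B] [IsDomain B] [IsNoetherianRing B] {X : Scheme.{u}}
    (f : X ⟶ Spec (CommRingCat.of B)) [LocallyOfFiniteType f] [QuasiCompact f] :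
    ∃ (V : (Spec (CommRingCat.of B)).Opens) (S' : Scheme.{u}) (h : S' ⟶ V.toScheme),
      (V : Set (Spec (CommRingCat.of B))).Nonempty ∧ IsIntegral S' ∧ IsFinite h ∧ Flat h ∧ AlgebraicGeometry.Surjective h ∧
      ∀ (Z : Scheme.{u}) (i : Z ⟶ pullback f (h ≫ V.ι)) [IsClosedImmersion i] [IsReduced Z],
        Set.range i.base ∈ irreducibleComponents ↥(pullback f (h ≫ V.ι)) →
          Flat (i ≫ pullback.snd f (h ≫ V.ι)) ∧ GeometricallyIntegral (i ≫ pullback.snd f (h ≫ V.ι)) := by
  classical
  let K := FractionRing B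
  let mK := Spec.map (CommRingCat.ofHom (algebraMap B K))
  let fK := pullback.snd f mK
  obtain ⟨L, _, _, _, hL⟩ := exists_geomIntegral_components K fK
  letI : Algebra B L := ((algebraMap K L).comp (algebraMap B K)).toAlgebra
  haveI : IsScalarTower B K L := .of_algebraMap_eq fun _ => rfl
  obtain ⟨C, hfin, hC⟩ := exists_finite_model B K L
  haveI := hfin
  haveI : IsFractionRing C L := isFractionRing_model (K := K) hC
  haveI : IsNoetherianRing C := IsNoetherianRing.of_finite B C
  haveI : Algebra.IsIntegral B C := Algebra.IsIntegral.of_finite B C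
  have hinjB : Function.Injective (algebraMap B L) := by
    rw [IsScalarTower.algebraMap_eq B K L]
    exact (algebraMap K L).injective.comp (IsFractionRing.injective B K)
  have hinj : Function.Injective (algebraMap B C) := fun x y h => hinjB (congrArg Subtype.val h)
  let v₀ := Spec.map (CommRingCat.ofHom (algebraMap B C))
  haveI : IsFinite v₀ := (IsFinite.SpecMap_iff _).2 (RingHom.finite_algebraMap.2 inferInstance)
  haveI : AlgebraicGeometry.Surjective v₀ := ⟨fun (x : PrimeSpectrum B) => by
      obtain ⟨Q, -, hQ, hQx⟩ := Ideal.exists_ideal_over_prime_of_isIntegral x.asIdeal (⊥ : Ideal C) (by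
        rw [← RingHom.ker_eq_comap_bot, (RingHom.injective_iff_ker_eq_bot _).1 hinj]
        exact bot_le)
      exact ⟨⟨Q, hQ⟩, PrimeSpectrum.ext hQx⟩⟩
  let Y₀ := Spec (CommRingCat.of C)
  let P₀ := pullback f v₀
  let q₀ : P₀ ⟶ Y₀ := pullback.snd f v₀
  haveI : CompactSpace ↑P₀ := HasAffineProperty.iff_of_isAffine.1 (inferInstance : QuasiCompact q₀)
  haveI : IsNoetherian P₀ := { __ := LocallyOfFiniteType.isLocallyNoetherian q₀ }
  let η : Y₀ := (⊥ : PrimeSpectrum C)
  have hgen : ∀ z, η ⤳ z := fun z => (PrimeSpectrum.le_iff_specializes (⊥ : PrimeSpectrum C) z).1 bot_le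
  let mC := Spec.map (CommRingCat.ofHom (algebraMap C L))
  haveI : IsPreimmersion mC := IsPreimmersion.of_isLocalization (nonZeroDivisors C)
  haveI : Flat mC := by
    rw [HasRingHomProperty.Spec_iff (P := @Flat)]
    exact RingHom.flat_algebraMap_iff.2 (IsLocalization.flat L (nonZeroDivisors C))
  have hmC : mC ≫ v₀ = Spec.map (CommRingCat.ofHom (algebraMap K L)) ≫ mK := by
    rw [← Spec.map_comp, ← Spec.map_comp, ← CommRingCat.ofHom_comp, ← CommRingCat.ofHom_comp]
    rfl
  let PL := pullback fK (Spec.map (CommRingCat.ofHom (algebraMap K L)))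
  let qL : PL ⟶ Spec (CommRingCat.of L) := pullback.snd _ _
  let aL : PL ⟶ X := pullback.fst _ _ ≫ pullback.fst f mK
  have hout : IsPullback aL qL f (mC ≫ v₀) := by
    rw [hmC]
    exact (IsPullback.of_hasPullback fK _).paste_horiz (IsPullback.of_hasPullback f mK)
  let jL : PL ⟶ P₀ := pullback.lift aL (qL ≫ mC) (hout.w.trans (Category.assoc _ _ _).symm)
  have hjL : IsPullback jL qL q₀ mC := by
    refine IsPullback.of_right ?_ (pullback.lift_snd _ _ _) (IsPullback.of_hasPullback f v₀)
    rwa [pullback.lift_fst]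
  haveI : IsPreimmersion jL := MorphismProperty.of_isPullback (P := @IsPreimmersion) hjL.flip inferInstance
  haveI : Flat jL := MorphismProperty.of_isPullback (P := @Flat) hjL.flip inferInstance
  haveI : CompactSpace ↑PL := HasAffineProperty.iff_of_isAffine.1 (inferInstance : QuasiCompact qL)
  haveI : IsNoetherian PL := { __ := LocallyOfFiniteType.isLocallyNoetherian qL }
  have hmpt : mC (default : PrimeSpectrum L) = η := by
    apply PrimeSpectrum.ext
    show Ideal.comap (algebraMap C L) (default : PrimeSpectrum L).asIdeal = ⊥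
    rw [Ideal.eq_bot_of_prime (default : PrimeSpectrum L).asIdeal, Ideal.comap_bot_of_injective]
    exact IsFractionRing.injective C L
  -- each component spreads out
  have hcomp : ∀ T : irreducibleComponents ↑PL, ∃ c : C, c ≠ 0 ∧
      GeometricallyIntegral (((Scheme.IdealSheafData.vanishingIdeal
        (⟨closure (jL '' T.1), isClosed_closure⟩ : Closeds ↑P₀)).subschemeι ≫ q₀) ∣_ PrimeSpectrum.basicOpen c) ∧
      Flat (((Scheme.IdealSheafData.vanishingIdeal
        (⟨closure (jL '' T.1), isClosed_closure⟩ : Closeds ↑P₀)).subschemeι ≫ q₀) ∣_ PrimeSpectrum.basicOpen c) := by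
    intro T
    let W : Closeds ↑P₀ := ⟨closure (jL '' T.1), isClosed_closure⟩
    let zι := (Scheme.IdealSheafData.vanishingIdeal W).subschemeι
    haveI := DvrDom.isReduced_vanishingIdeal_subscheme W
    haveI : IsReduced (pullback zι jL) := isReduced_of_flat_preimmersion (pullback.fst zι jL)
    have hr : Set.range (pullback.snd zι jL) = T.1 := by
      rw [Scheme.Pullback.range_snd, Scheme.IdealSheafData.range_subschemeι, support_vi]
      show jL ⁻¹' closure (jL '' T.1) = T.1
      rw [← jL.isEmbedding.isInducing.closure_eq_preimage_closure_image,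
        (isClosed_of_mem_irreducibleComponents _ T.2).closure_eq]
    have hgi : GeometricallyIntegral (pullback.snd zι jL ≫ qL) :=
      hL _ (pullback.snd zι jL) (hr ▸ T.2)
    have hsq : IsPullback (pullback.fst zι jL) (pullback.snd zι jL ≫ qL) (zι ≫ q₀) mC :=
      (IsPullback.of_hasPullback zι jL).paste_vert hjL
    refine exists_geomIntegral_open C (zι ≫ q₀) ?_
    obtain ⟨σ, hσ⟩ := exists_iso_residue L mC η hmpt
    have hsq' : IsPullback (pullback.fst zι jL) (pullback.snd zι jL ≫ qL) (zι ≫ q₀) (σ.hom ≫ Y₀.fromSpecResidueField η) := by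
      rwa [hσ]
    have hF : IsPullback ((zι ≫ q₀).fiberι η) ((zι ≫ q₀).fiberToSpecResidueField η ≫ σ.inv) (zι ≫ q₀)
        (σ.hom ≫ Y₀.fromSpecResidueField η) :=
      (IsPullback.of_hasPullback (zι ≫ q₀) (Y₀.fromSpecResidueField η)).of_iso (Iso.refl _) (Iso.refl _) σ.symm
        (Iso.refl _) (by simp; rfl) (by simp; rfl) (by simp) (by simp)
    have he := hF.isoIsPullback_hom_snd _ _ hsq'
    rw [← MorphismProperty.cancel_right_of_respectsIso @GeometricallyIntegral _ σ.inv, ← he]
    exact (MorphismProperty.cancel_left_of_respectsIso @GeometricallyIntegral _ _).2 hgi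
  choose c hc hcI hcF using hcomp
  -- the part away from the generic fibre
  let E₀ : P₀.Opens := ⟨(closure (Set.range jL))ᶜ, isClosed_closure.isOpen_compl⟩
  haveI : LocallyOfFinitePresentation q₀ := ConsEngine.lfp_of_lft q₀
  have hE₀ : ∀ x ∈ E₀, q₀ x ≠ η := fun x hx hqx => hx (subset_closure (by
    rw [range_of_isPullback hjL.flip]
    exact ⟨(default : PrimeSpectrum L), hmpt.trans hqx.symm⟩))
  obtain ⟨c₀, hc₀, hc₀E⟩ : ∃ c₀ : C, c₀ ≠ 0 ∧ ∀ x ∈ E₀, q₀ x ∉ (PrimeSpectrum.basicOpen c₀ : Set (PrimeSpectrum C)) := by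
    have h := q₀.isLocallyConstructible_image (s := (E₀ : Set ↑P₀))
      ((NoetherianSpace.isCompact _).isConstructible E₀.2).isLocallyConstructible
    rcases ConsMod.interior_or_of_isLocallyConstructible hgen h with hi | hi
    · obtain ⟨x, hx, hqx⟩ := interior_subset hi
      exact absurd hqx (hE₀ x hx)
    · obtain ⟨_, ⟨c₀, rfl⟩, hc, hcE⟩ :=
        PrimeSpectrum.isTopologicalBasis_basic_opens.exists_subset_of_mem_open hi isOpen_interior
      exact ⟨c₀, fun h => by simp [h] at hc, fun x hx hxc => interior_subset (hcE hxc) ⟨x, hx, rfl⟩⟩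
  haveI := (NoetherianSpace.finite_irreducibleComponents (α := ↑PL)).fintype
  let cC := c₀ * ∏ T, c T
  have hne : (Ideal.span {cC}).comap (algebraMap B C) ≠ ⊥ :=
    Ideal.comap_ne_bot_of_algebraic_mem (x := cC) (mul_ne_zero hc₀ (Finset.prod_ne_zero_iff.2 fun T _ => hc T))
      (Ideal.mem_span_singleton_self cC) (Algebra.IsIntegral.isIntegral cC).isAlgebraic
  obtain ⟨b₁, hb₁, hb₁0⟩ := Submodule.exists_mem_ne_zero_of_ne_bot hne
  obtain ⟨r, hr, hflat⟩ := exists_flat_restrict B C
  let V : (Spec (CommRingCat.of B)).Opens := PrimeSpectrum.basicOpen (r * b₁)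
  let S' := v₀ ⁻¹ᵁ V
  let h := v₀ ∣_ V
  have hS'c : (S' : Y₀.Opens) ≤ PrimeSpectrum.basicOpen cC := fun x hx hmem => by
    obtain ⟨d, hd⟩ := Ideal.mem_span_singleton'.1 (Ideal.mem_comap.1 hb₁)
    apply (show algebraMap B C (r * b₁) ∉ (x : PrimeSpectrum C).asIdeal from hx)
    rw [map_mul, ← hd]
    exact Ideal.mul_mem_left _ _ (Ideal.mul_mem_left _ _ hmem)
  have hbot : (⊥ : PrimeSpectrum C) ∈ S' := by
    show algebraMap B C (r * b₁) ∉ (⊥ : Ideal C)
    rw [Submodule.mem_bot]
    exact fun h => mul_ne_zero hr hb₁0 (hinj (h.trans (map_zero _).symm))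
  haveI : Nonempty S'.toScheme := ⟨⟨_, hbot⟩⟩
  haveI : IsIntegral S'.toScheme := isIntegral_of_isOpenImmersion S'.ι
  refine ⟨V, S'.toScheme, h, ⟨v₀ η, hbot⟩, inferInstance,
    MorphismProperty.of_isPullback (P := @IsFinite) (isPullback_morphismRestrict v₀ V).flip inferInstance,
    MorphismProperty.of_isPullback (P := @Flat) (isPullback_restrict_le v₀ (PrimeSpectrum.basicOpen_mul_le_left r b₁)).flip hflat,
    MorphismProperty.of_isPullback (P := @AlgebraicGeometry.Surjective) (isPullback_morphismRestrict v₀ V).flip inferInstance,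
    fun Z i _ _ hZ => ?_⟩
  let F := h ≫ V.ι
  have hF : F = S'.ι ≫ v₀ := morphismRestrict_ι v₀ V
  let j : pullback f F ⟶ P₀ := pullback.lift (pullback.fst f F) (pullback.snd f F ≫ S'.ι)
    (by rw [Category.assoc, ← hF]; exact pullback.condition)
  have hj : IsPullback j (pullback.snd f F) q₀ S'.ι := by
    refine IsPullback.of_right ?_ (pullback.lift_snd _ _ _) (IsPullback.of_hasPullback f v₀)
    rw [pullback.lift_fst, ← hF]
    exact IsPullback.of_hasPullback f F
  haveI : IsOpenImmersion j := MorphismProperty.of_isPullback (P := @IsOpenImmersion) hj.flip inferInstance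
  have hq : ∀ x, q₀ (j x) ∈ (S' : Y₀.Opens) := fun x => by
    have e : q₀ (j x) = S'.ι (pullback.snd f F x) := congrArg (fun φ : pullback f F ⟶ Y₀ => φ x) hj.w
    rw [e]
    exact (pullback.snd f F x).2
  have hcover : ∀ x, ∃ T : irreducibleComponents ↑PL, j x ∈ closure (jL '' T.1) := by
    intro x
    have h1 : j x ∈ closure (Set.range jL) := by
      by_contra hne'
      exact hc₀E _ hne' (PrimeSpectrum.basicOpen_mul_le_left c₀ _ (hS'c (hq x)))
    have h2 : Set.range jL = ⋃ T : irreducibleComponents ↑PL, jL '' T.1 := by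
      rw [← Set.image_univ, ← sUnion_irreducibleComponents, Set.sUnion_eq_iUnion, Set.image_iUnion]
    rw [h2, closure_iUnion_of_finite] at h1
    exact Set.mem_iUnion.1 h1
  obtain ⟨_, ⟨T, rfl⟩, hTW⟩ := isIrreducible_iff_sUnion_isClosed.1 hZ.1
    (Finset.univ.image fun T : irreducibleComponents ↑PL => j ⁻¹' closure (jL '' T.1))
    (fun s hs => by
      obtain ⟨T, -, rfl⟩ := Finset.mem_image.1 hs
      exact isClosed_closure.preimage j.continuous)
    (fun x _ => by
      obtain ⟨T, hT⟩ := hcover x
      exact Set.mem_sUnion.2 ⟨_, Finset.mem_image.2 ⟨T, Finset.mem_univ _, rfl⟩, hT⟩)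
    |> fun ⟨s, hs, hss⟩ => (⟨s, (by obtain ⟨T, -, e⟩ := Finset.mem_image.1 hs; exact ⟨T, e⟩), hss⟩ :
      ∃ s, (∃ T : irreducibleComponents ↑PL, j ⁻¹' closure (jL '' T.1) = s) ∧ Set.range i.base ⊆ s)
  have hirrW : IsIrreducible (j ⁻¹' closure (jL '' T.1)) := by
    refine ⟨hZ.1.nonempty.mono hTW, ?_⟩
    have hW : IsPreirreducible (closure (jL '' T.1)) :=
      ((T.2.1.image _ jL.continuous.continuousOn).closure).2
    exact hW.preimage j.isOpenEmbedding
  have hrange : Set.range i = j ⁻¹' closure (jL '' T.1) := Set.Subset.antisymm hTW (hZ.2 hirrW hTW)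
  let W : Closeds ↑P₀ := ⟨closure (jL '' T.1), isClosed_closure⟩
  let zι := (Scheme.IdealSheafData.vanishingIdeal W).subschemeι
  haveI := DvrDom.isReduced_vanishingIdeal_subscheme W
  haveI : IsReduced (pullback zι j) := isReduced_of_isOpenImmersion (pullback.fst zι j)
  obtain ⟨d, hd⟩ := exists_iso_of_immersion i (pullback.snd zι j) (by
    rw [Scheme.Pullback.range_snd, Scheme.IdealSheafData.range_subschemeι, support_vi, hrange]; rfl)
  let U : Y₀.Opens := PrimeSpectrum.basicOpen (c T)
  have hS'U : (S' : Y₀.Opens) ≤ U := fun x hx hmem => by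
    obtain ⟨e, he⟩ := Finset.dvd_prod_of_mem c (Finset.mem_univ T)
    refine hS'c hx ?_
    show c₀ * ∏ T, c T ∈ _
    rw [he]
    exact Ideal.mul_mem_left _ _ (Ideal.mul_mem_right _ _ hmem)
  have hbig : IsPullback (pullback.fst zι j) (pullback.snd zι j ≫ pullback.snd f F) (zι ≫ q₀) (Y₀.homOfLE hS'U ≫ U.ι) := by
    rw [Scheme.homOfLE_ι]
    exact (IsPullback.of_hasPullback zι j).paste_vert hj
  have hsqU := IsPullback.of_right' hbig (isPullback_morphismRestrict (zι ≫ q₀) U).flip
  have hflat' : Flat (pullback.snd zι j ≫ pullback.snd f F) := MorphismProperty.of_isPullback hsqU (hcF T)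
  have hgi' : GeometricallyIntegral (pullback.snd zι j ≫ pullback.snd f F) :=
    MorphismProperty.of_isPullback hsqU (hcI T)
  rw [← hd, Category.assoc]
  exact ⟨(MorphismProperty.cancel_left_of_respectsIso @Flat d.hom _).2 hflat',
    (MorphismProperty.cancel_left_of_respectsIso @GeometricallyIntegral d.hom _).2 hgi'⟩

end Groth.Agent.SmoothStrat
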