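import Groth.Agent.SmoothStrat.Piece
import Groth.Agent.S1629
import Groth.Agent.S1654
import Groth.Agent.GrpField.SchImgSmooth
import Mathlib.AlgebraicGeometry.Geometrically.Integral
import Mathlib.AlgebraicGeometry.Noetherian

/-! Components geometrically integral after a finite extension of the field. -/

set_option autoImplicit false
set_option linter.style.haveILetI false
set_option backward.isDefEq.respectTransparency false
universe u
open CategoryTheory CategoryTheory.Limits AlgebraicGeometry TopologicalSpace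

noncomputable section

namespace Groth.Agent.SmoothStrat

/-- A component of a geometrically reduced noetherian scheme, with reduced structure, is geometrically reduced. -/
theorem geometricallyReduced_component {k : Type u} [Field k] {R : Scheme.{u}} [IsNoetherian R] [IsReduced R]
    (q : R ⟶ Spec (CommRingCat.of k)) [GeometricallyReduced q] (T : Set ↑R) (hT : T ∈ irreducibleComponents ↑R)
    {Z : Scheme.{u}} (i : Z ⟶ R) [IsClosedImmersion i] [IsReduced Z] (hi : Set.range i = T) :
    GeometricallyReduced (i ≫ q) := by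
  classical
  let others : Set ↑R := ⋃ W ∈ irreducibleComponents ↑R \ {T}, W
  have hcl : IsClosed others := (NoetherianSpace.finite_irreducibleComponents.sdiff).isClosed_biUnion
    fun W hW => isClosed_of_mem_irreducibleComponents W hW.1
  let U : R.Opens := ⟨othersᶜ, hcl.isOpen_compl⟩
  have hUT : (U : Set ↑R) ⊆ T := fun x hx => by
    by_contra hne
    exact hx (Set.mem_biUnion (x := irreducibleComponent x) ⟨irreducibleComponent_mem_irreducibleComponents x,
      fun h : irreducibleComponent x = T => hne (h ▸ mem_irreducibleComponent)⟩ mem_irreducibleComponent)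
  have hUne : (U : Set ↑R).Nonempty := by
    by_contra hne
    have hsub : T ⊆ others := fun x _ => by
      by_contra hx
      exact hne ⟨x, hx⟩
    obtain ⟨W, hW, hTW⟩ := isIrreducible_iff_sUnion_isClosed.1 hT.1
      (NoetherianSpace.finite_irreducibleComponents.sdiff (t := {T})).toFinset
      (fun W hW => isClosed_of_mem_irreducibleComponents W ((Set.Finite.mem_toFinset _).1 hW).1)
      (fun x hx => by
        obtain ⟨W, hW, hxW⟩ := Set.mem_iUnion₂.1 (hsub hx)
        exact Set.mem_sUnion.2 ⟨W, (Set.Finite.mem_toFinset _).2 hW, hxW⟩)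
    have hW' := (Set.Finite.mem_toFinset _).1 hW
    exact hW'.2 (Set.Subset.antisymm (hT.2 hW'.1.1 hTW) hTW)
  haveI : IsReduced U.toScheme := isReduced_of_isOpenImmersion U.ι
  haveI : IsReduced (i ⁻¹ᵁ U).toScheme := isReduced_of_isOpenImmersion (i ⁻¹ᵁ U).ι
  have hsub : (U : Set ↑R) ⊆ Set.range i := hi ▸ hUT
  haveI : IsIso (i ∣_ U) := by
    haveI : IsClosedImmersion (i ∣_ U) :=
      MorphismProperty.of_isPullback (P := @IsClosedImmersion) (isPullback_morphismRestrict i U).flip inferInstance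
    haveI : AlgebraicGeometry.Surjective (i ∣_ U) := ⟨fun x => by
      obtain ⟨z, hz⟩ := hsub x.2
      refine ⟨⟨z, show i z ∈ U from hz.symm ▸ x.2⟩, U.ι.injective ?_⟩
      show ((i ∣_ U) ≫ U.ι) _ = _
      rw [morphismRestrict_ι]
      exact hz⟩
    exact isIso_of_isClosedImmersion_of_surjective _
  haveI : GeometricallyReduced (U.ι ≫ q) := by
    refine ⟨fun K _ y P p₁ p₂ h => ?_⟩
    let e : P ⟶ pullback q y := pullback.lift (p₁ ≫ U.ι) p₂ (by rw [Category.assoc]; exact h.w)
    have hsq : IsPullback p₁ e U.ι (pullback.fst q y) := by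
      refine IsPullback.of_bot ?_ (pullback.lift_fst _ _ _).symm (IsPullback.of_hasPullback q y)
      rwa [pullback.lift_snd]
    haveI : IsOpenImmersion e := MorphismProperty.of_isPullback (P := @IsOpenImmersion) hsq inferInstance
    haveI : IsReduced (pullback q y) :=
      GeometricallyReduced.geometrically_isReduced _ _ _ (IsPullback.of_hasPullback q y)
    exact isReduced_of_isOpenImmersion e
  haveI : GeometricallyReduced ((i ⁻¹ᵁ U).ι ≫ i ≫ q) := by
    rw [← morphismRestrict_ι_assoc]
    exact (MorphismProperty.cancel_left_of_respectsIso @GeometricallyReduced (i ∣_ U) _).2 ‹_›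
  haveI : IsDominant (i ⁻¹ᵁ U).ι := by
    refine ⟨?_⟩
    rw [DenseRange, Scheme.Opens.range_ι]
    have hirr : IrreducibleSpace ↑Z := by
      have h : IsIrreducible (Set.range i) := hi ▸ hT.1
      refine (irreducibleSpace_def _).2 ⟨?_, ?_⟩
      · obtain ⟨_, z, rfl⟩ := h.nonempty; exact ⟨z, trivial⟩
      · intro u v hu hv ⟨a, _, ha⟩ ⟨b, _, hb⟩
        obtain ⟨u', hu', rfl⟩ := i.isClosedEmbedding.isInducing.isOpen_iff.1 hu
        obtain ⟨v', hv', rfl⟩ := i.isClosedEmbedding.isInducing.isOpen_iff.1 hv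
        obtain ⟨_, ⟨w, rfl⟩, hw1, hw2⟩ := h.2 u' v' hu' hv' ⟨_, ⟨a, rfl⟩, ha⟩ ⟨_, ⟨b, rfl⟩, hb⟩
        exact ⟨w, trivial, hw1, hw2⟩
    obtain ⟨x, hx⟩ := hUne
    obtain ⟨z, hz⟩ := hsub hx
    exact (i ⁻¹ᵁ U).2.dense ⟨z, show i z ∈ U from hz.symm ▸ hx⟩
  haveI : IsNoetherian Z := by
    haveI : IsLocallyNoetherian Z := LocallyOfFiniteType.isLocallyNoetherian i
    haveI : CompactSpace ↑Z := QuasiCompact.compactSpace_of_compactSpace i
    exact {}
  haveI : QuasiCompact (i ⁻¹ᵁ U).ι := inferInstance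
  haveI : IsSchemeTheoreticallyDominant (i ⁻¹ᵁ U).ι := .of_isDominant _
  let g : Over.mk ((i ⁻¹ᵁ U).ι ≫ i ≫ q) ⟶ Over.mk (i ≫ q) := Over.homMk (i ⁻¹ᵁ U).ι rfl
  haveI : IsSchemeTheoreticallyDominant g.left := ‹IsSchemeTheoreticallyDominant (i ⁻¹ᵁ U).ι›
  haveI : QuasiCompact g.left := ‹QuasiCompact (i ⁻¹ᵁ U).ι›
  haveI : GeometricallyReduced (Over.mk ((i ⁻¹ᵁ U).ι ≫ i ≫ q)).hom := ‹GeometricallyReduced ((i ⁻¹ᵁ U).ι ≫ i ≫ q)›
  exact GrpField.SchImg.geometricallyReduced_of_schDom g

set_option maxHeartbeats 1000000 in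
/-- After a finite extension all components are geometrically integral. -/
theorem exists_geomIntegral_components (K : Type u) [Field K] {X : Scheme.{u}} (f : X ⟶ Spec (CommRingCat.of K))
    [LocallyOfFiniteType f] [QuasiCompact f] :
    ∃ (L : Type u) (_ : Field L) (_ : Algebra K L) (_ : Module.Finite K L),
      ∀ (Z : Scheme.{u}) (i : Z ⟶ pullback f (Spec.map (CommRingCat.ofHom (algebraMap K L))))
        [IsClosedImmersion i] [IsReduced Z], Set.range i ∈ irreducibleComponents ↑(pullback f (Spec.map (CommRingCat.ofHom (algebraMap K L)))) →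
          GeometricallyIntegral (i ≫ pullback.snd f (Spec.map (CommRingCat.ofHom (algebraMap K L)))) := by
  classical
  haveI : CompactSpace X := HasAffineProperty.iff_of_isAffine.1 ‹QuasiCompact f›
  haveI : IsNoetherian X := { __ := LocallyOfFiniteType.isLocallyNoetherian f }
  letI : X.Over (Spec (CommRingCat.of K)) := ⟨f⟩
  haveI : LocallyOfFiniteType (X ↘ Spec (CommRingCat.of K)) := ‹LocallyOfFiniteType f›
  obtain ⟨k₁, _, _, _, _, h₁⟩ := S1629.result K X NoetherianSpace.finite_irreducibleComponents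
  let m₁ := Spec.map (CommRingCat.ofHom (algebraMap K k₁))
  let X₁ := pullback f m₁
  let f₁ : X₁ ⟶ Spec (CommRingCat.of k₁) := pullback.snd f m₁
  letI : X₁.Over (Spec (CommRingCat.of k₁)) := ⟨f₁⟩
  haveI : LocallyOfFiniteType (X₁ ↘ Spec (CommRingCat.of k₁)) := inferInstanceAs (LocallyOfFiniteType f₁)
  haveI : CompactSpace ↑X₁ := HasAffineProperty.iff_of_isAffine.1 (inferInstance : QuasiCompact f₁)
  haveI : IsNoetherian X₁ := { __ := LocallyOfFiniteType.isLocallyNoetherian f₁ }
  obtain ⟨L, _, _, _, _, h₂⟩ := S1654.result k₁ X₁ NoetherianSpace.finite_irreducibleComponents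
  letI : Algebra K L := ((algebraMap k₁ L).comp (algebraMap K k₁)).toAlgebra
  haveI : IsScalarTower K k₁ L := .of_algebraMap_eq fun _ => rfl
  refine ⟨L, inferInstance, inferInstance, Module.Finite.trans k₁ L, fun Z i _ _ hZ => ?_⟩
  let m₂ := Spec.map (CommRingCat.ofHom (algebraMap k₁ L))
  let m := Spec.map (CommRingCat.ofHom (algebraMap K L))
  have hm : m₂ ≫ m₁ = m := by
    rw [← Spec.map_comp]; rfl
  let X₂ := pullback f₁ m₂
  let f₂ : X₂ ⟶ Spec (CommRingCat.of L) := pullback.snd f₁ m₂
  have hbig : IsPullback (pullback.fst f₁ m₂ ≫ pullback.fst f m₁) f₂ f m := by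
    rw [← hm]
    exact (IsPullback.of_hasPullback f₁ m₂).paste_horiz (IsPullback.of_hasPullback f m₁)
  let e := hbig.isoPullback
  have he : e.hom ≫ pullback.snd f m = f₂ := hbig.isoPullback_hom_snd
  haveI : CompactSpace ↑X₂ := HasAffineProperty.iff_of_isAffine.1 (inferInstance : QuasiCompact f₂)
  haveI : IsNoetherian X₂ := { __ := LocallyOfFiniteType.isLocallyNoetherian f₂ }
  -- the reduced scheme is geometrically reduced
  let R₁ := X₁.nilradical.subscheme
  haveI hR₁ : GeometricallyReduced (X₁.nilradical.subschemeι ≫ f₁) := h₁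
  haveI : IsReduced (pullback X₁.nilradical.subschemeι (pullback.fst f₁ m₂)) :=
    GeometricallyReduced.geometrically_isReduced _ _ _
      ((IsPullback.of_hasPullback X₁.nilradical.subschemeι (pullback.fst f₁ m₂)).paste_vert
        (IsPullback.of_hasPullback f₁ m₂))
  let r := pullback.snd X₁.nilradical.subschemeι (pullback.fst f₁ m₂)
  haveI hR₂ : GeometricallyReduced (r ≫ f₂) :=
    MorphismProperty.of_isPullback (P := @GeometricallyReduced)
      ((IsPullback.of_hasPullback X₁.nilradical.subschemeι (pullback.fst f₁ m₂)).paste_vert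
        (IsPullback.of_hasPullback f₁ m₂)) hR₁
  have hrs : Set.range r = Set.univ := by
    rw [Scheme.Pullback.range_snd, ← Scheme.IdealSheafData.vanishingIdeal_top, Scheme.IdealSheafData.range_subschemeι,
      support_vi]
    simp
  haveI : IsNoetherian (pullback X₁.nilradical.subschemeι (pullback.fst f₁ m₂)) := by
    haveI : IsLocallyNoetherian (pullback X₁.nilradical.subschemeι (pullback.fst f₁ m₂)) :=
      LocallyOfFiniteType.isLocallyNoetherian r
    haveI : CompactSpace ↑(pullback X₁.nilradical.subschemeι (pullback.fst f₁ m₂)) :=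
      QuasiCompact.compactSpace_of_compactSpace r
    exact {}
  -- the component
  let i₂ := i ≫ e.inv
  let T := Set.range i₂
  have hTeq : T = e.inv '' Set.range i := by
    show Set.range (i ≫ e.inv) = _
    rw [Scheme.Hom.comp_base, TopCat.coe_comp, Set.range_comp]
  let Φ : ↑(pullback f m) ≃ₜ ↑X₂ := Scheme.homeoOfIso e.symm
  have hT : T ∈ irreducibleComponents ↑X₂ := by
    rw [hTeq]
    refine ⟨hZ.1.image _ Φ.continuous.continuousOn, fun W hW hle => ?_⟩
    have h1 : IsIrreducible (Φ.symm '' W) := hW.image _ Φ.symm.continuous.continuousOn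
    have h2 : Set.range i ⊆ Φ.symm '' W := fun z hz => ⟨Φ z, hle ⟨z, hz, rfl⟩, Φ.symm_apply_apply z⟩
    intro w hw
    exact ⟨Φ.symm w, hZ.2 h1 h2 ⟨w, hw, rfl⟩, Φ.apply_symm_apply w⟩
  have hirrT := h₂ T hT
  haveI := DvrDom.isReduced_vanishingIdeal_subscheme (⟨T, isClosed_of_mem_irreducibleComponents T hT⟩ : Closeds ↑X₂)
  obtain ⟨d, hd⟩ := exists_iso_of_immersion i₂
    (Scheme.IdealSheafData.vanishingIdeal (⟨T, isClosed_of_mem_irreducibleComponents T hT⟩ : Closeds ↑X₂)).subschemeι
    (by rw [Scheme.IdealSheafData.range_subschemeι, support_vi]; rfl)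
  have hgi : GeometricallyIrreducible (i₂ ≫ f₂) := by
    rw [← hd, Category.assoc]
    exact (MorphismProperty.cancel_left_of_respectsIso @GeometricallyIrreducible d.hom _).2 hirrT
  haveI : IsClosedImmersion i₂ := inferInstance
  haveI : AlgebraicGeometry.Surjective r := ⟨Set.range_eq_univ.1 hrs⟩
  haveI : IsClosedImmersion r := inferInstance
  let Ψ : ↑(pullback X₁.nilradical.subschemeι (pullback.fst f₁ m₂)) ≃ₜ ↑X₂ :=
    r.isClosedEmbedding.toIsEmbedding.toHomeomorphOfSurjective r.surjective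
  have hT' : r ⁻¹' T ∈ irreducibleComponents ↑(pullback X₁.nilradical.subschemeι (pullback.fst f₁ m₂)) := by
    have hTi : r ⁻¹' T = Ψ.symm '' T := by
      rw [Ψ.image_symm]; rfl
    rw [hTi]
    refine ⟨hT.1.image _ Ψ.symm.continuous.continuousOn, fun W hW hle => ?_⟩
    have h1 : IsIrreducible (Ψ '' W) := hW.image _ Ψ.continuous.continuousOn
    have h2 : T ⊆ Ψ '' W := fun z hz => ⟨Ψ.symm z, hle ⟨z, hz, rfl⟩, Ψ.apply_symm_apply z⟩
    intro w hw
    exact ⟨Ψ w, hT.2 h1 h2 ⟨w, hw, rfl⟩, Ψ.symm_apply_apply w⟩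
  let z' := (Scheme.IdealSheafData.vanishingIdeal
    (⟨r ⁻¹' T, isClosed_of_mem_irreducibleComponents _ hT'⟩ : Closeds ↑(pullback X₁.nilradical.subschemeι (pullback.fst f₁ m₂)))).subschemeι
  haveI := DvrDom.isReduced_vanishingIdeal_subscheme
    (⟨r ⁻¹' T, isClosed_of_mem_irreducibleComponents _ hT'⟩ : Closeds ↑(pullback X₁.nilradical.subschemeι (pullback.fst f₁ m₂)))
  have hz' : Set.range z' = r ⁻¹' T := by rw [Scheme.IdealSheafData.range_subschemeι, support_vi]; rfl
  have hgr : GeometricallyReduced (z' ≫ r ≫ f₂) := geometricallyReduced_component (r ≫ f₂) _ hT' z' hz'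
  obtain ⟨d', hd'⟩ := exists_iso_of_immersion i₂ (z' ≫ r) (by
    rw [Scheme.Hom.comp_base z' r, TopCat.coe_comp, Set.range_comp, hz', Set.image_preimage_eq _ r.surjective])
  haveI hgr₂ : GeometricallyReduced (i₂ ≫ f₂) := by
    rw [← hd', Category.assoc, Category.assoc]
    exact (MorphismProperty.cancel_left_of_respectsIso @GeometricallyReduced d'.hom _).2 hgr
  haveI := hgi
  have hi₂ : i₂ ≫ f₂ = i ≫ pullback.snd f m := by
    show (i ≫ e.inv) ≫ f₂ = _
    rw [← he, Category.assoc, Iso.inv_hom_id_assoc]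
  rw [← hi₂]
  exact GeometricallyIntegral.of_geometricallyReduced_of_geometricallyIrreducible _

end Groth.Agent.SmoothStrat
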